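import Groth.Agent.L05.SmoothCrit.Rank
import Groth.Agent.L03.GeomReduced
import Groth.Agent.S9442
import Groth.Agent.S2143
import Groth.Agent.L01.Regular
import Mathlib.RingTheory.Spectrum.Prime.FreeLocus
import Mathlib.RingTheory.Nilpotent.GeometricallyReduced

/-!
An algebra of finite type over a field with projective differentials which is smooth at the minimal
primes is smooth.
-/

set_option autoImplicit false
set_option maxSynthPendingDepth 3
set_option linter.style.haveILetI false
universe u

noncomputable section

namespace Groth.L05.SmoothCrit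

open IsLocalRing
open scoped TensorProduct

variable {k S : Type u} [Field k] [CommRing S] [Algebra k S] [Algebra.FiniteType k S]

include k in
theorem localDim_mono {p q : Ideal S} [p.IsPrime] [q.IsPrime] (h : p ≤ q) :
    FlatMor.localDim (PrimeSpectrum S) ⟨p, inferInstance⟩ ≤ FlatMor.localDim (PrimeSpectrum S) ⟨q, inferInstance⟩ := by
  rw [Groth.Agent.S2143.result (k := k) p, Groth.Agent.S2143.result (k := k) q]
  exact le_iInf fun m => iInf_le_of_le ⟨m.1, m.2.1, h.trans m.2.2⟩ le_rfl

theorem rank_eq_rankAtStalk [Module.Flat S (Ω[S⁄k])] (q : Ideal S) [q.IsPrime] :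
    rank (k := k) q = Module.rankAtStalk (Ω[S⁄k]) (⟨q, inferInstance⟩ : PrimeSpectrum S) := by
  rw [Module.rankAtStalk_eq]
  rfl

theorem rank_eq_of_le [Module.Projective S (Ω[S⁄k])] {p q : Ideal S} [p.IsPrime] [q.IsPrime] (h : p ≤ q) :
    rank (k := k) p = rank (k := k) q := by
  rw [rank_eq_rankAtStalk, rank_eq_rankAtStalk]
  exact Module.rankAtStalk_eq_of_le_of_finite_of_flat' _ h

/-- smooth at a generization with the same rank of differentials implies smooth -/
theorem isSmoothAt_of_generization {p q : Ideal S} [p.IsPrime] [q.IsPrime] (h : p ≤ q)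
    [Algebra.IsSmoothAt k p] (hr : rank (k := k) q ≤ rank (k := k) p) : Algebra.IsSmoothAt k q := by
  rw [isSmoothAt_iff_rank_le]
  refine le_trans ?_ (localDim_mono (k := k) h)
  rw [rank_eq_localDim (k := k) p]
  exact_mod_cast hr

theorem isSmoothAt_of_projective [Module.Projective S (Ω[S⁄k])]
    (hmin : ∀ (p : Ideal S) [p.IsPrime], p ∈ minimalPrimes S → Algebra.IsSmoothAt k p)
    (q : Ideal S) [q.IsPrime] : Algebra.IsSmoothAt k q := by
  obtain ⟨p, hp, hpq⟩ := Ideal.exists_minimalPrimes_le (I := (⊥ : Ideal S)) (J := q) bot_le
  haveI : p.IsPrime := hp.1.1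
  haveI := hmin p hp
  exact isSmoothAt_of_generization hpq (rank_eq_of_le hpq).ge

omit [Algebra.FiniteType k S] in
theorem isField_atPrime_of_mem_minimalPrimes (p : Ideal S) [p.IsPrime] (hp : p ∈ minimalPrimes S)
    [IsReduced (Localization.AtPrime p)] : IsField (Localization.AtPrime p) := by
  haveI := IsLocalization.subsingleton_primeSpectrum_of_mem_minimalPrimes p hp
    (Localization.AtPrime p)
  rw [IsLocalRing.isField_iff_maximalIdeal_eq, eq_bot_iff]
  intro x hx
  have h : x ∈ nilradical (Localization.AtPrime p) := by
    rw [nilradical_eq_sInf, Submodule.mem_sInf]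
    intro P hP
    rwa [show P = maximalIdeal _ from congrArg PrimeSpectrum.asIdeal
      (Subsingleton.elim (⟨P, hP⟩ : PrimeSpectrum (Localization.AtPrime p)) ⟨maximalIdeal _, inferInstance⟩)]
  exact (mem_nilradical.mp h).eq_zero

/-- A minimal prime with geometrically reduced local ring is a smooth point. -/
theorem isSmoothAt_of_minimal (p : Ideal S) [p.IsPrime] (hp : p ∈ minimalPrimes S)
    [Algebra.IsGeometricallyReduced k (Localization.AtPrime p)] : Algebra.IsSmoothAt k p := by
  haveI : IsReduced (Localization.AtPrime p) :=
    Algebra.isReduced_of_isGeometricallyReduced k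
  have hf := isField_atPrime_of_mem_minimalPrimes p hp
  have hbij : Function.Bijective (IsLocalRing.residue (Localization.AtPrime p)) := by
    refine ⟨(injective_iff_map_eq_zero _).mpr fun x hx => ?_, IsLocalRing.residue_surjective⟩
    rwa [IsLocalRing.residue_eq_zero_iff, (IsLocalRing.isField_iff_maximalIdeal_eq.mp hf)] at hx
  let e : Localization.AtPrime p ≃ₐ[k] p.ResidueField :=
    AlgEquiv.ofBijective (IsScalarTower.toAlgHom k (Localization.AtPrime p) p.ResidueField) hbij
  haveI : Algebra.IsGeometricallyReduced k p.ResidueField :=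
    Algebra.IsGeometricallyReduced.of_injective e.symm.toAlgHom e.symm.injective
  letI := hf.toField
  exact (Groth.Agent.S9442.result k S p).mpr
    (inferInstanceAs (IsRegularLocalRing (Localization.AtPrime p)))

/-- At a smooth minimal prime the local ring is geometrically reduced. -/
theorem isGeometricallyReduced_of_minimal (p : Ideal S) [p.IsPrime] (hp : p ∈ minimalPrimes S)
   
    [Algebra.IsSmoothAt k p] : Algebra.IsGeometricallyReduced k (Localization.AtPrime p) := by
  haveI : IsRegularLocalRing (Localization.AtPrime p) := ((isSmoothAt_iff_regular_injective (k := k) p).mp inferInstance).1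
  haveI := Groth.L01.isDomain_of_regular (Localization.AtPrime p)
  letI := (isField_atPrime_of_mem_minimalPrimes p hp).toField
  exact (Groth.L03.GeomReduced.formallySmooth_iff k (Localization.AtPrime p)).mp inferInstance

end Groth.L05.SmoothCrit
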