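import Groth.Agent.L05.SmoothCrit.LocalModel
import Mathlib.AlgebraicGeometry.Morphisms.Smooth
import Mathlib.AlgebraicGeometry.Noetherian

/-!
A smooth chart at a point of the smooth locus, on local rings.
-/

set_option autoImplicit false
set_option linter.style.haveILetI false
universe u

open CategoryTheory AlgebraicGeometry

namespace Groth.L05.SmoothCrit

theorem exists_smooth_chart {X Y : Scheme.{u}} (f : X ⟶ Y) [LocallyOfFinitePresentation f] (x : X)
    (hx : x ∈ f.smoothLocus) :
    ∃ (A B : Type u) (_ : CommRing A) (_ : CommRing B) (_ : Algebra A B) (_ : Algebra.Smooth A B)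
      (q : Ideal B) (_ : q.IsPrime),
      (IsLocallyNoetherian Y → IsNoetherianRing A) ∧
      Nonempty (X.presheaf.stalk x ≃+* Localization.AtPrime q) ∧
      Nonempty (Y.presheaf.stalk (f x) ≃+* Localization.AtPrime (q.comap (algebraMap A B))) := by
  obtain ⟨U, hU, V, hV, hVU, hxV, hs⟩ := exists_smooth_of_formallySmooth_stalk f x hx
  letI := (f.appLE U V hVU).hom.toAlgebra
  haveI : Algebra.Smooth Γ(Y, U) Γ(X, V) := RingHom.smooth_algebraMap.mp hs
  letI := X.presheaf.algebra_section_stalk ⟨x, hxV⟩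
  haveI := hV.isLocalization_stalk ⟨x, hxV⟩
  letI := Y.presheaf.algebra_section_stalk ⟨f x, hVU hxV⟩
  haveI := hU.isLocalization_stalk ⟨f x, hVU hxV⟩
  let q := (hV.primeIdealOf ⟨x, hxV⟩).asIdeal
  let p := (hU.primeIdealOf ⟨f x, hVU hxV⟩).asIdeal
  have hp : p = q.comap (algebraMap Γ(Y, U) Γ(X, V)) :=
    (congrArg PrimeSpectrum.asIdeal (IsAffineOpen.comap_primeIdealOf_appLE U hU V hV hVU hxV)).symm
  refine ⟨Γ(Y, U), Γ(X, V), inferInstance, inferInstance, inferInstance, inferInstance, q, inferInstance,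
    fun h => IsLocallyNoetherian.component_noetherian (X := Y) ⟨U, hU⟩, ?_, ?_⟩
  · exact ⟨(IsLocalization.algEquiv q.primeCompl (X.presheaf.stalk x) (Localization.AtPrime q)).toRingEquiv⟩
  · exact ⟨((IsLocalization.algEquiv p.primeCompl (Y.presheaf.stalk (f x)) (Localization.AtPrime p)).toRingEquiv).trans
      (IsLocalization.ringEquivOfRingEquiv (M := p.primeCompl) (T := (q.comap (algebraMap Γ(Y, U) Γ(X, V))).primeCompl)
        (Localization.AtPrime p) (Localization.AtPrime (q.comap (algebraMap Γ(Y, U) Γ(X, V)))) (RingEquiv.refl _)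
        (by simp [hp]))⟩

theorem mem_smoothLocus_of_nhd {X Y : Scheme.{u}} (f : X ⟶ Y) [LocallyOfFinitePresentation f] (x : X)
    (hx : ∃ U : X.Opens, x ∈ U ∧ Smooth (U.ι ≫ f)) : x ∈ f.smoothLocus := by
  obtain ⟨U, hxU, hU⟩ := hx
  have h : (⟨x, hxU⟩ : U) ∈ (U.ι ≫ f).smoothLocus := by rw [Scheme.Hom.smoothLocus_eq_top]; trivial
  rw [← Scheme.Hom.preimage_smoothLocus_eq] at h
  exact h

end Groth.L05.SmoothCrit

namespace Groth.L05.SmoothCrit

theorem lfp_of_noetherian {X Y : Scheme.{u}} (f : X ⟶ Y) [IsLocallyNoetherian Y] [LocallyOfFiniteType f] :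
    LocallyOfFinitePresentation f := by
  rw [HasRingHomProperty.eq_affineLocally @LocallyOfFinitePresentation, affineLocally_iff_forall_isAffineOpen]
  intro U hU V hV e
  haveI := IsLocallyNoetherian.component_noetherian (X := Y) ⟨U, hU⟩
  exact RingHom.FinitePresentation.of_finiteType.mp (f.finiteType_appLE hU hV e)

end Groth.L05.SmoothCrit
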