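import Groth.Agent.L06.CplKaehlerSmooth
import Groth.Agent.L06.FormSmoothEFT
import Groth.Agent.S2141
import Mathlib.RingTheory.Smooth.Locus
import Mathlib.RingTheory.RegularLocalRing.Defs
import Mathlib.RingTheory.LocalRing.ResidueField.Ideal
import Mathlib.RingTheory.Etale.Kaehler
import Mathlib.FieldTheory.FinTrdeg

/-!
For an algebra of finite type over a field the rank of the differentials at a point is at least the
local dimension, with equality exactly at the smooth points.
-/

set_option autoImplicit false
set_option maxSynthPendingDepth 3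
set_option linter.style.haveILetI false
universe u

noncomputable section

namespace Groth.L05.SmoothCrit

open IsLocalRing Groth.L06.FormSmooth
open scoped TensorProduct

section Local

variable {k A : Type u} [Field k] [CommRing A] [IsLocalRing A] [Algebra k A]

open Groth.L03.CartierEq Groth.L06.CplKaehlerSmooth in
/-- `dim κ ⊗ Ω_{A/k} = dim 𝔪/𝔪² + trdeg κ + dim ker (κ ⊗ Ω_k → κ ⊗ Ω_A)` -/
theorem finrank_tensor_kaehler_ker [IsNoetherianRing A] [Algebra.EssFiniteType k (ResidueField A)]
    [Module.Finite (ResidueField A) (ResidueField A ⊗[A] Ω[A⁄k])] :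
    Module.Finite (ResidueField A) (LinearMap.ker (diffMap k A)) ∧
    Module.finrank (ResidueField A) (ResidueField A ⊗[A] Ω[A⁄k]) =
      Module.finrank (ResidueField A) (CotangentSpace A) + Cardinal.toNat (Algebra.trdeg k (ResidueField A)) +
        Module.finrank (ResidueField A) (LinearMap.ker (diffMap k A)) := by
  let u := diffMap k A
  let v := KaehlerDifferential.mapBaseChange ℤ A (ResidueField A)
  let w := (KaehlerDifferential.map ℤ k A A).baseChange (ResidueField A)
  obtain ⟨hkv, hkv'⟩ := ker_mapBaseChange (k := k) (A := A)
  have hv : Function.Surjective v := KaehlerDifferential.mapBaseChange_surjective ℤ A (ResidueField A) residue_surjective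
  have hw : Function.Surjective w := LinearMap.lTensor_surjective _ (KaehlerDifferential.map_surjective ℤ k A)
  have hru : LinearMap.ker w = LinearMap.range u := SetLike.ext fun z => range_diffMap z
  let eu := (Submodule.quotEquivOfEq _ _ hru.symm).trans (w.quotKerEquivOfSurjective hw)
  haveI : Module.Finite (ResidueField A) ((ResidueField A ⊗[A] Ω[A⁄ℤ]) ⧸ LinearMap.range u) := Module.Finite.equiv eu.symm
  haveI : Subsingleton ((Ω[ResidueField A⁄ℤ]) ⧸ LinearMap.range v) :=
    Submodule.Quotient.subsingleton_iff.mpr (LinearMap.range_eq_top.mpr hv)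
  have hvu : v.comp u = KaehlerDifferential.mapBaseChange ℤ k (ResidueField A) := by
    refine LinearMap.ext fun z => ?_
    induction z using TensorProduct.induction_on with
    | zero => simp
    | add a b ha hb => simp only [map_add, ha, hb]
    | tmul c y =>
      induction (KaehlerDifferential.span_range_derivation ℤ k ▸ Submodule.mem_top :
          y ∈ Submodule.span k (Set.range (KaehlerDifferential.D ℤ k))) using Submodule.span_induction generalizing c with
      | mem y hy =>
        obtain ⟨a, rfl⟩ := hy
        show v (u (c ⊗ₜ KaehlerDifferential.D ℤ k a)) = _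
        rw [diffMap_tmul, KaehlerDifferential.mapBaseChange_tmul, KaehlerDifferential.mapBaseChange_tmul,
          KaehlerDifferential.map_D, KaehlerDifferential.map_D]
        rfl
      | zero => simp
      | add a b _ _ ha hb => simp only [TensorProduct.tmul_add, map_add, ha, hb]
      | smul r a _ ha => rw [← TensorProduct.smul_tmul]; exact ha _
  have hku : Module.Finite (ResidueField A) (LinearMap.ker u) := by
    haveI : Module.Finite (ResidueField A)
        (LinearMap.ker (KaehlerDifferential.mapBaseChange ℤ k (ResidueField A))) :=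
      (Groth.L06.SepKaehler.finrank_kaehler_eq k (ResidueField A)).2.1
    have hle : LinearMap.ker u ≤ LinearMap.ker (KaehlerDifferential.mapBaseChange ℤ k (ResidueField A)) := by
      rw [← hvu]
      intro x hx
      rw [LinearMap.mem_ker] at hx ⊢
      rw [LinearMap.comp_apply, hx, map_zero]
    exact Module.Finite.of_injective (Submodule.inclusion hle) (Submodule.inclusion_injective hle)
  refine ⟨hku, ?_⟩
  have hfu : Fred u := ⟨hku, inferInstance⟩
  have hfv : Fred v := ⟨hkv, inferInstance⟩
  obtain ⟨-, hi⟩ := index_comp u v hfu hfv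
  have e1 : index u = (Module.finrank (ResidueField A) (LinearMap.ker (diffMap k A)) : ℤ) -
      Module.finrank (ResidueField A) (ResidueField A ⊗[A] Ω[A⁄k]) := by
    rw [index, eu.finrank_eq]
  have e2 : index v = Module.finrank (ResidueField A) (CotangentSpace A) := by
    rw [index, hkv', Module.finrank_zero_of_subsingleton (M := (Ω[ResidueField A⁄ℤ]) ⧸ LinearMap.range v)]; simp
  have e3 : index (v.comp u) = -(Cardinal.toNat (Algebra.trdeg k (ResidueField A)) : ℤ) := by
    rw [hvu]; exact index_base k (ResidueField A)
  omega

theorem ker_eq_zero_iff [IsNoetherianRing A] [Algebra.EssFiniteType k (ResidueField A)]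
    [Module.Finite (ResidueField A) (ResidueField A ⊗[A] Ω[A⁄k])] :
    Module.finrank (ResidueField A) (LinearMap.ker (diffMap k A)) = 0 ↔ Function.Injective (diffMap k A) := by
  haveI := (finrank_tensor_kaehler_ker (k := k) (A := A)).1
  rw [Submodule.finrank_eq_zero, LinearMap.ker_eq_bot]

end Local

section FiniteType

variable {k S : Type u} [Field k] [CommRing S] [Algebra k S] [Algebra.FiniteType k S]
  (q : Ideal S) [q.IsPrime]

/-- the rank of the differentials at `q` -/
def rank : ℕ := Module.finrank q.ResidueField (q.ResidueField ⊗[S] Ω[S⁄k])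

/-- the base change of the differentials to the residue field factors through the local ring -/
def localizedEquiv : q.ResidueField ⊗[S] Ω[S⁄k] ≃ₗ[q.ResidueField]
    ResidueField (Localization.AtPrime q) ⊗[Localization.AtPrime q] Ω[Localization.AtPrime q⁄k] :=
  haveI : Algebra.FormallyEtale S (Localization.AtPrime q) := .of_isLocalization q.primeCompl
  (TensorProduct.AlgebraTensorModule.cancelBaseChange S (Localization.AtPrime q) q.ResidueField
      q.ResidueField (Ω[S⁄k])).symm ≪≫ₗ
    TensorProduct.AlgebraTensorModule.congr (LinearEquiv.refl q.ResidueField q.ResidueField)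
      (KaehlerDifferential.tensorKaehlerEquivOfFormallyEtale k S (Localization.AtPrime q))

/-- rank, cotangent dimension, transcendence degree and local dimension at a point -/
theorem exists_invariants : ∃ (d c t : ℕ), ringKrullDim (Localization.AtPrime q) = (d : WithBot ℕ∞) ∧
    d ≤ c ∧ (c = d ↔ IsRegularLocalRing (Localization.AtPrime q)) ∧
    FlatMor.localDim (PrimeSpectrum S) ⟨q, inferInstance⟩ = ((d + t : ℕ) : WithBot ℕ∞) ∧
    ∃ e : ℕ, rank (k := k) q = c + t + e ∧
      (e = 0 ↔ Function.Injective (diffMap k (Localization.AtPrime q))) := by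
  let A := Localization.AtPrime q
  haveI : IsNoetherianRing S := Algebra.FiniteType.isNoetherianRing k S
  haveI : IsNoetherianRing A := IsLocalization.isNoetherianRing q.primeCompl A inferInstance
  haveI : Algebra.EssFiniteType S A := Algebra.EssFiniteType.of_isLocalization A q.primeCompl
  haveI : Algebra.EssFiniteType k A := Algebra.EssFiniteType.comp k S A
  haveI : Algebra.EssFiniteType A (ResidueField A) := inferInstance
  haveI : Algebra.EssFiniteType k (ResidueField A) := Algebra.EssFiniteType.comp k A (ResidueField A)
  obtain ⟨d, hd⟩ : ∃ d : ℕ, ringKrullDim A = (d : WithBot ℕ∞) := by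
    have h := Ideal.height_ne_top (I := maximalIdeal A) (maximalIdeal.isMaximal A).ne_top
    obtain ⟨d, hd⟩ := WithTop.ne_top_iff_exists.mp h
    exact ⟨d, by rw [← IsLocalRing.maximalIdeal_height_eq_ringKrullDim, ← hd]; rfl⟩
  have htfin : Algebra.trdeg k (ResidueField A) < Cardinal.aleph0 := trdeg_lt_aleph0 (K := k) (L := ResidueField A)
  have ht : Algebra.trdeg k q.ResidueField = (Cardinal.toNat (Algebra.trdeg k (ResidueField A)) : ℕ) :=
    (Cardinal.cast_toNat_of_lt_aleph0 htfin).symm
  have hr := finrank_tensor_kaehler_ker (k := k) (A := A)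
  refine ⟨d, Module.finrank (ResidueField A) (CotangentSpace A), Cardinal.toNat (Algebra.trdeg k (ResidueField A)),
    hd, ?_, ?_, ?_, Module.finrank (ResidueField A) (LinearMap.ker (diffMap k A)), ?_, ker_eq_zero_iff⟩
  · have h := ringKrullDim_le_spanFinrank_maximalIdeal A
    rw [hd, IsLocalRing.spanFinrank_maximalIdeal_eq_finrank_cotangentSpace] at h
    exact_mod_cast h
  · rw [isRegularLocalRing_iff, hd, IsLocalRing.spanFinrank_maximalIdeal_eq_finrank_cotangentSpace]
    exact_mod_cast Iff.rfl
  · rw [Groth.Agent.S2141.result q _ ht, hd]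
    push_cast
    rfl
  · rw [rank, (localizedEquiv q).finrank_eq]
    exact hr.2

theorem isSmoothAt_iff_regular_injective :
    Algebra.IsSmoothAt k q ↔
      (IsRegularLocalRing (Localization.AtPrime q) ∧ Function.Injective (diffMap k (Localization.AtPrime q))) := by
  haveI : IsNoetherianRing S := Algebra.FiniteType.isNoetherianRing k S
  haveI : IsNoetherianRing (Localization.AtPrime q) := IsLocalization.isNoetherianRing q.primeCompl _ inferInstance
  haveI : Algebra.EssFiniteType S (Localization.AtPrime q) := Algebra.EssFiniteType.of_isLocalization _ q.primeCompl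
  haveI : Algebra.EssFiniteType k (Localization.AtPrime q) := Algebra.EssFiniteType.comp k S _
  rw [← adicSmooth_iff_regular_injective, adicSmooth_iff_formallySmooth]

/-- The local dimension is at most the rank of the differentials. -/
theorem localDim_le_rank :
    FlatMor.localDim (PrimeSpectrum S) ⟨q, inferInstance⟩ ≤ ((rank (k := k) q : ℕ) : WithBot ℕ∞) := by
  obtain ⟨d, c, t, -, hdc, -, hl, e, hr, -⟩ := exists_invariants (k := k) q
  rw [hl, hr]
  exact_mod_cast (by omega : d + t ≤ c + t + e)

/-- A point is smooth iff the rank of the differentials is at most the local dimension. -/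
theorem isSmoothAt_iff_rank_le :
    Algebra.IsSmoothAt k q ↔
      ((rank (k := k) q : ℕ) : WithBot ℕ∞) ≤ FlatMor.localDim (PrimeSpectrum S) ⟨q, inferInstance⟩ := by
  obtain ⟨d, c, t, -, hdc, hreg, hl, e, hr, he⟩ := exists_invariants (k := k) q
  rw [isSmoothAt_iff_regular_injective, hl, hr, ← hreg, ← he]
  constructor
  · rintro ⟨rfl, rfl⟩
    simp
  · intro h
    have h' : c + t + e ≤ d + t := by exact_mod_cast h
    omega

/-- At a smooth point the rank of the differentials is the local dimension. -/
theorem rank_eq_localDim [Algebra.IsSmoothAt k q] :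
    FlatMor.localDim (PrimeSpectrum S) ⟨q, inferInstance⟩ = ((rank (k := k) q : ℕ) : WithBot ℕ∞) :=
  le_antisymm (localDim_le_rank q) ((isSmoothAt_iff_rank_le q).mp inferInstance)

end FiniteType

end Groth.L05.SmoothCrit
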