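import Groth.Agent.L05.SmoothCrit.Conormal
import Groth.Agent.L05.SmoothCrit.Etale
import Groth.Agent.L05.SmoothCrit.Projective
import Groth.Agent.L06.SepKaehler
import Groth.Agent.S9442

/-!
Smooth points and adapted systems of coordinates.
-/

set_option autoImplicit false
set_option maxSynthPendingDepth 3
set_option linter.style.haveILetI false
universe u

noncomputable section

namespace Groth.L05.SmoothCrit

open KaehlerDifferential IsLocalRing
open scoped TensorProduct

section Local

variable (k A : Type u) [CommRing k] [CommRing A] [IsLocalRing A] [Algebra k A]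

theorem span_dbar {ι : Type*} [Fintype ι] (ω : ι → A)
    (h : Submodule.span A (Set.range fun i => D k A (ω i)) = ⊤) :
    Submodule.span (ResidueField A) (Set.range fun i => dbar k A (ω i)) = ⊤ := by
  let b : Submodule A (Ω[A⁄k]) := Submodule.span A (Set.range fun i => D k A (ω i))
  have hb : Submodule.baseChange (ResidueField A) b = ⊤ := by
    rw [show b = ⊤ from h, Submodule.baseChange_top]
  rw [Submodule.baseChange_span, ← Set.range_comp] at hb
  exact hb

end Local

variable {k A : Type u} [Field k] [CommRing A] [Algebra k A] [Algebra.FiniteType k A]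
  (p : Ideal A) [p.IsPrime] {n r : ℕ}

theorem rank_eq_finrank_localized : rank (k := k) p = Module.finrank p.ResidueField
    (ResidueField (Localization.AtPrime p) ⊗[Localization.AtPrime p] Ω[Localization.AtPrime p⁄k]) :=
  (localizedEquiv p).finrank_eq

theorem smooth_of_spanning (hn : FlatMor.localDim (PrimeSpectrum A) ⟨p, inferInstance⟩ = (n : WithBot ℕ∞))
    (g : Fin n → Localization.AtPrime p)
    (h : Submodule.span (Localization.AtPrime p) (Set.range fun i => D k (Localization.AtPrime p) (g i)) = ⊤) :
    Algebra.IsSmoothAt k p ∧ IsRegularLocalRing (Localization.AtPrime p) ∧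
      LinearIndependent p.ResidueField fun i => dbar k (Localization.AtPrime p) (g i) := by
  let f := Fintype.linearCombination (Localization.AtPrime p) (fun i => D k (Localization.AtPrime p) (g i))
  have hf : Function.Surjective f := LinearMap.range_eq_top.mp ((Fintype.range_linearCombination _ _).trans h)
  have hf' : Function.Surjective (f.baseChange p.ResidueField) := LinearMap.lTensor_surjective _ hf
  have hle : rank (k := k) p ≤ n := by
    rw [rank_eq_finrank_localized]
    refine le_trans (LinearMap.finrank_le_finrank_of_surjective hf') ?_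
    rw [Module.finrank_baseChange, Module.finrank_fin_fun]
  have hs : Algebra.IsSmoothAt k p := by
    rw [isSmoothAt_iff_rank_le, hn]; exact_mod_cast hle
  have hr : rank (k := k) p = n := by
    haveI := hs
    have := rank_eq_localDim (k := k) p
    rw [hn] at this
    exact_mod_cast this.symm
  refine ⟨hs, ((isSmoothAt_iff_regular_injective p).mp hs).1,
    linearIndependent_of_top_le_span_of_card_eq_finrank (span_dbar k _ g h).ge ?_⟩
  rw [Fintype.card_fin, ← hr]
  exact rank_eq_finrank_localized p

theorem card_lt (hrn : r ≤ n) : Fintype.card {i : Fin n // (i : ℕ) < r} = r := by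
  let e : {i : Fin n // (i : ℕ) < r} ≃ Fin r :=
    ⟨fun i => ⟨i.1, i.2⟩, fun i => ⟨⟨i, lt_of_lt_of_le i.2 hrn⟩, i.2⟩, fun i => rfl, fun i => rfl⟩
  rw [Fintype.card_congr e, Fintype.card_fin]

theorem dim_le_localDim (hn : FlatMor.localDim (PrimeSpectrum A) ⟨p, inferInstance⟩ = (n : WithBot ℕ∞))
    (hr : ringKrullDim (Localization.AtPrime p) = (r : WithBot ℕ∞)) :
    ∃ t : ℕ, n = r + t ∧ t = Cardinal.toNat (Algebra.trdeg k p.ResidueField) := by
  haveI : Algebra.EssFiniteType A p.ResidueField := inferInstance
  haveI : Algebra.EssFiniteType k p.ResidueField := Algebra.EssFiniteType.comp k A _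
  have ht := (Cardinal.cast_toNat_of_lt_aleph0 (trdeg_lt_aleph0 (K := k) (L := p.ResidueField))).symm
  refine ⟨_, ?_, rfl⟩
  rw [Groth.Agent.S2141.result p _ ht, hr] at hn
  exact_mod_cast hn.symm

/-- Generators of the maximal ideal with lifts of generators of the residual differentials are
exactly the systems with spanning differentials and vanishing first coordinates. -/
theorem adapted_iff_span (hn : FlatMor.localDim (PrimeSpectrum A) ⟨p, inferInstance⟩ = (n : WithBot ℕ∞))
    (hr : ringKrullDim (Localization.AtPrime p) = (r : WithBot ℕ∞)) (g : Fin n → Localization.AtPrime p)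
    (hg : ∀ i : Fin n, (i : ℕ) < r → g i ∈ maximalIdeal (Localization.AtPrime p)) :
    (Ideal.span (g '' {i : Fin n | (i : ℕ) < r}) = maximalIdeal (Localization.AtPrime p) ∧
      Submodule.span p.ResidueField ((fun i : Fin n =>
        D k p.ResidueField (residue (Localization.AtPrime p) (g i))) '' {i : Fin n | r ≤ (i : ℕ)}) = ⊤) ↔
      Submodule.span (Localization.AtPrime p) (Set.range fun i => D k (Localization.AtPrime p) (g i)) = ⊤ := by
  haveI : Algebra.EssFiniteType A (Localization.AtPrime p) := Algebra.EssFiniteType.of_isLocalization _ p.primeCompl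
  haveI : Algebra.EssFiniteType k (Localization.AtPrime p) := Algebra.EssFiniteType.comp k A _
  constructor
  · rintro ⟨h1, h2⟩
    exact span_of_residue k _ g _ _ h1 h2
  · intro h
    obtain ⟨-, hreg, hli⟩ := smooth_of_spanning p hn g h
    obtain ⟨t, hnt, -⟩ := dim_le_localDim (k := k) p hn hr
    refine ⟨?_, residue_span_of_span k _ g {i | (i : ℕ) < r} {i | r ≤ (i : ℕ)} (Set.eq_univ_of_forall fun i => by
      simp only [Set.mem_union, Set.mem_setOf_eq]; omega) hg h⟩
    haveI := hreg
    have := span_eq_maximalIdeal k (Localization.AtPrime p) (ι := {i : Fin n // (i : ℕ) < r})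
      (by rw [card_lt (by omega), hr]) (fun i => g i.1) (fun i => hg i.1 i.2)
      (hli.comp _ Subtype.val_injective)
    rw [← this]
    congr 1
    ext x
    simp [Set.mem_image]

/-- finrank of the differentials of a geometrically reduced residue field -/
theorem geomReduced_iff_finrank (κ : Type u) [Field κ] [Algebra k κ] [Algebra.EssFiniteType k κ] :
    Algebra.IsGeometricallyReduced k κ ↔ Module.finrank κ (Ω[κ⁄k]) ≤ Cardinal.toNat (Algebra.trdeg k κ) := by
  obtain ⟨-, hfin, hc⟩ := Groth.L06.SepKaehler.finrank_kaehler_eq k κ
  haveI := hfin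
  rw [Groth.L06.SepKaehler.separable_iff_imperfection, ← Submodule.finrank_eq_zero]
  omega

end Groth.L05.SmoothCrit
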