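import Groth.Agent.L05.SmoothCrit.Projective
import Groth.Agent.L25.DerReduced
import Groth.Agent.L03.FieldFS
import Mathlib.RingTheory.Jacobson.Ring
import Mathlib.RingTheory.Kaehler.TensorProduct
import Mathlib.FieldTheory.IsAlgClosed.AlgebraicClosure

/-!
In characteristic zero a point with free differentials is smooth.
-/

set_option autoImplicit false
set_option maxSynthPendingDepth 3
set_option linter.style.haveILetI false
universe u

noncomputable section

namespace Groth.L05.SmoothCrit

open scoped TensorProduct

/-- An algebra of finite type over an algebraically closed field of characteristic zero with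
projective differentials is reduced. -/
theorem isReduced_of_projective (K B : Type u) [Field K] [IsAlgClosed K] [CharZero K] [CommRing B]
    [Algebra K B] [Algebra.FiniteType K B] [Module.Projective B (Ω[B⁄K])] : IsReduced B := by
  haveI : IsNoetherianRing B := Algebra.FiniteType.isNoetherianRing K B
  refine Groth.L25.DerReduced.isReduced (k := K) (fun m hm => ?_) (fun χ w h1 hw => ?_)
  · letI := Ideal.Quotient.field m
    haveI : Algebra.FiniteType K (B ⧸ m) :=
      Algebra.FiniteType.of_surjective (Ideal.Quotient.mkₐ K m) Ideal.Quotient.mk_surjective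
    haveI : Module.Finite K (B ⧸ m) := finite_of_finite_type_of_isJacobsonRing K (B ⧸ m)
    have hbij := IsAlgClosed.algebraMap_bijective_of_isIntegral (k := K) (K := B ⧸ m)
    let e : K ≃ₐ[K] B ⧸ m := AlgEquiv.ofBijective (Algebra.ofId K (B ⧸ m)) hbij
    refine ⟨e.symm.toAlgHom.comp (Ideal.Quotient.mkₐ K m), fun a => ?_⟩
    rw [← Ideal.Quotient.mk_eq_mk_iff_sub_mem]
    exact (e.apply_symm_apply (Ideal.Quotient.mk m a)).symm
  · letI : Module B K := Module.compHom K χ.toRingHom
    haveI : IsScalarTower K B K := ⟨fun c b x => by
      show χ (c • b) * x = c * (χ b * x)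
      rw [map_smul, smul_eq_mul, mul_assoc]⟩
    let Dw : Derivation K B K := Derivation.mk' w (fun a b => by
      show w (a * b) = χ a * w b + χ b * w a
      exact hw a b)
    let π : B →ₗ[B] K := LinearMap.toSpanSingleton B K 1
    have hπ : ∀ b, π b = χ b := fun b => show χ b * 1 = χ b from mul_one _
    have hsurj : Function.Surjective π := fun c => ⟨algebraMap K B c, by rw [hπ, AlgHom.commutes]; rfl⟩
    obtain ⟨l, hl⟩ := Module.projective_lifting_property π Dw.liftKaehlerDifferential hsurj
    refine ⟨l.compDer (KaehlerDifferential.D K B), fun a => ?_⟩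
    rw [← hπ]
    exact (LinearMap.congr_fun hl _).trans (Dw.liftKaehlerDifferential_comp_D a)

/-- In characteristic zero projective differentials force smoothness. -/
theorem isSmoothAt_of_projective_charZero {k S : Type u} [Field k] [CharZero k] [CommRing S] [Algebra k S]
    [Algebra.FiniteType k S] [Module.Projective S (Ω[S⁄k])] (q : Ideal S) [q.IsPrime] :
    Algebra.IsSmoothAt k q := by
  let K := AlgebraicClosure k
  haveI : CharZero K := charZero_of_injective_algebraMap (algebraMap k K).injective
  letI := (Algebra.TensorProduct.includeRight : S →ₐ[k] K ⊗[k] S).toRingHom.toAlgebra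
  haveI : IsScalarTower k S (K ⊗[k] S) := IsScalarTower.of_algebraMap_eq fun c =>
    ((Algebra.TensorProduct.includeRight : S →ₐ[k] K ⊗[k] S).commutes c).symm
  haveI : Algebra.IsPushout k K S (K ⊗[k] S) := TensorProduct.isPushout
  haveI : Module.Projective (K ⊗[k] S) (Ω[K ⊗[k] S⁄K]) :=
    Module.Projective.of_equiv (KaehlerDifferential.tensorKaehlerEquiv k K S (K ⊗[k] S))
  haveI : Algebra.IsGeometricallyReduced k S :=
    (Algebra.isGeometricallyReduced_field_iff k S).mpr (isReduced_of_projective K (K ⊗[k] S))
  haveI : IsReduced S := Algebra.isReduced_of_isGeometricallyReduced k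
  refine isSmoothAt_of_projective (fun p _ hp => ?_) q
  haveI : IsReduced (Localization.AtPrime p) := inferInstance
  letI := (isField_atPrime_of_mem_minimalPrimes p hp).toField
  haveI : Algebra.IsGeometricallyReduced k (Localization.AtPrime p) :=
    (Groth.L03.GeomReduced.formallySmooth_iff k (Localization.AtPrime p)).mp
      (Groth.L03.FieldFS.formallySmooth_of_perfectField k _)
  exact isSmoothAt_of_minimal p hp

open PrimeSpectrum in
/-- In characteristic zero a point with free differentials is smooth. -/
theorem isSmoothAt_of_free_charZero {k S : Type u} [Field k] [CharZero k] [CommRing S] [Algebra k S]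
    [Algebra.FiniteType k S] (q : Ideal S) [q.IsPrime]
    [Module.Free (Localization.AtPrime q) (Ω[Localization.AtPrime q⁄k])] : Algebra.IsSmoothAt k q := by
  haveI : IsNoetherianRing S := Algebra.FiniteType.isNoetherianRing k S
  haveI : Module.FinitePresentation S (Ω[S⁄k]) := Module.finitePresentation_of_finite _ _
  haveI : Algebra.FormallyEtale S (Localization.AtPrime q) := .of_isLocalization q.primeCompl
  have hmem : (⟨q, inferInstance⟩ : PrimeSpectrum S) ∈ Module.freeLocus S (Ω[S⁄k]) :=
    (Module.mem_freeLocus_iff_tensor (⟨q, inferInstance⟩ : PrimeSpectrum S) (Localization.AtPrime q)).mpr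
      (Module.Free.of_equiv (KaehlerDifferential.tensorKaehlerEquivOfFormallyEtale k S (Localization.AtPrime q)).symm)
  obtain ⟨_, ⟨g, rfl⟩, hg, hsub⟩ := isTopologicalBasis_basic_opens.exists_subset_of_mem_open hmem Module.isOpen_freeLocus
  have hproj := Module.basicOpen_subset_freeLocus_iff.mp hsub
  let Sg := Localization.Away g
  haveI : Algebra.FormallyEtale S Sg := .of_isLocalization (Submonoid.powers g)
  haveI : Algebra.FinitePresentation S Sg := IsLocalization.Away.finitePresentation g
  haveI : Algebra.FiniteType S Sg := inferInstance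
  haveI : Algebra.FiniteType k Sg := Algebra.FiniteType.trans (R := k) (S := S) inferInstance inferInstance
  haveI := hproj
  haveI : Module.Projective Sg (Ω[Sg⁄k]) :=
    Module.Projective.of_equiv (((IsLocalizedModule.isBaseChange (Submonoid.powers g) Sg
      (LocalizedModule.mkLinearMap (Submonoid.powers g) (Ω[S⁄k]))).equiv).symm.trans
        (KaehlerDifferential.tensorKaehlerEquivOfFormallyEtale k S Sg))
  obtain ⟨Q, hQ⟩ : (⟨q, inferInstance⟩ : PrimeSpectrum S) ∈
      Set.range (PrimeSpectrum.comap (algebraMap S Sg)) := by
    rw [PrimeSpectrum.localization_away_comap_range Sg g]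
    exact hg
  have h : Q ∈ Algebra.smoothLocus k Sg := isSmoothAt_of_projective_charZero Q.asIdeal
  rw [← Algebra.smoothLocus_comap_of_isLocalization g, Set.mem_preimage, hQ] at h
  exact h

end Groth.L05.SmoothCrit
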