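import Groth.Agent.L05.SmoothCrit.LocalModel
import Groth.Agent.L06.FlatCodepth
import Groth.Agent.L04.CMLoc

/-!
Depth and dimension along a smooth algebra.
-/

set_option autoImplicit false
set_option maxSynthPendingDepth 3
set_option linter.style.haveILetI false
universe u

noncomputable section

namespace Groth.L05.SmoothCrit

open IsLocalRing

theorem codepth_eq (A B : Type u) [CommRing A] [CommRing B] [Algebra A B] [Algebra.Smooth A B] [IsNoetherianRing A]
    (q : Ideal B) [q.IsPrime] :
    ringKrullDim (Localization.AtPrime q) +
        ((LocCoh.depth (Localization.AtPrime (q.comap (algebraMap A B)))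
          (Localization.AtPrime (q.comap (algebraMap A B))) : ℕ∞) : WithBot ℕ∞) =
      ringKrullDim (Localization.AtPrime (q.comap (algebraMap A B))) +
        ((LocCoh.depth (Localization.AtPrime q) (Localization.AtPrime q) : ℕ∞) : WithBot ℕ∞) := by
  haveI : IsNoetherianRing B := Algebra.FiniteType.isNoetherianRing A B
  let p := q.comap (algebraMap A B)
  haveI : q.LiesOver p := ⟨rfl⟩
  obtain ⟨i, hl, hf, P, hP, ⟨e⟩⟩ := Groth.L06.FlatFibre.exists_local_fibre p q
  letI := i
  haveI := hl
  haveI := hf
  haveI : IsNoetherianRing (Localization.AtPrime p) := IsLocalization.isNoetherianRing p.primeCompl _ inferInstance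
  haveI : IsNoetherianRing (Localization.AtPrime q) := IsLocalization.isNoetherianRing q.primeCompl _ inferInstance
  have hreg := Groth.L06.RegularBaseChange.of_smooth A B
  haveI := Groth.L07.CIFibre.isRegularLocalRing_fibre_of_regular hreg p P
  haveI : IsRegularLocalRing (EGA4.FibRing (Localization.AtPrime p) (Localization.AtPrime q)) :=
    IsRegularLocalRing.of_ringEquiv e
  have hF : ((LocCoh.depth (EGA4.FibRing (Localization.AtPrime p) (Localization.AtPrime q))
      (EGA4.FibRing (Localization.AtPrime p) (Localization.AtPrime q)) : ℕ∞) : WithBot ℕ∞) =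
      ringKrullDim (EGA4.FibRing (Localization.AtPrime p) (Localization.AtPrime q)) := by
    rw [← Module.supportDim_self_eq_ringKrullDim]
    exact ((Groth.L04.isCohenMacaulayLocalRing_of_regular _).supportDim_eq_depth).symm
  rw [Groth.L06.FlatFibre.ringKrullDim_eq (Localization.AtPrime p) (Localization.AtPrime q),
    Groth.L06.FlatCodepth.depth_eq_add (Localization.AtPrime p) (Localization.AtPrime q), WithBot.coe_add, hF]
  abel

end Groth.L05.SmoothCrit
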