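import Mathlib.RingTheory.Kaehler.Basic
import Mathlib.RingTheory.LocalRing.Module
import Mathlib.RingTheory.LocalRing.ResidueField.Basic
import Mathlib.RingTheory.Ideal.Cotangent
import Mathlib.RingTheory.RegularLocalRing.Defs
import Mathlib.LinearAlgebra.FiniteDimensional.Lemmas

/-!
Generators of the maximal ideal and differentials of the residue field.
-/

set_option autoImplicit false
set_option maxSynthPendingDepth 3
set_option linter.style.haveILetI false
universe u

noncomputable section

namespace Groth.L05.SmoothCrit

open KaehlerDifferential IsLocalRing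
open scoped TensorProduct

variable (k A : Type u) [CommRing k] [CommRing A] [IsLocalRing A] [Algebra k A]

/-- `a ↦ 1 ⊗ da` -/
def dbar (a : A) : ResidueField A ⊗[A] Ω[A⁄k] := 1 ⊗ₜ D k A a

theorem dbar_add (a b : A) : dbar k A (a + b) = dbar k A a + dbar k A b := by
  rw [dbar, dbar, dbar, map_add, TensorProduct.tmul_add]

theorem dbar_mul (a b : A) :
    dbar k A (a * b) = residue A a • dbar k A b + residue A b • dbar k A a := by
  rw [dbar, dbar, dbar, Derivation.leibniz, TensorProduct.tmul_add, TensorProduct.tmul_smul,
    TensorProduct.tmul_smul, ← algebraMap_smul (ResidueField A) a, ← algebraMap_smul (ResidueField A) b]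
  rfl

theorem mapBaseChange_dbar (a : A) :
    mapBaseChange k A (ResidueField A) (dbar k A a) = D k (ResidueField A) (residue A a) := by
  rw [dbar, mapBaseChange_tmul, one_smul, map_D]
  rfl

theorem dbar_eq_zero_of_mem_sq {a : A} (ha : a ∈ maximalIdeal A ^ 2) : dbar k A a = 0 := by
  rw [pow_two] at ha
  refine Submodule.mul_induction_on ha (fun x hx y hy => ?_) (fun x y hx hy => ?_)
  · rw [dbar_mul, (residue_eq_zero_iff x).mpr hx, (residue_eq_zero_iff y).mpr hy, zero_smul, zero_smul,
      add_zero]
  · rw [dbar_add, hx, hy, add_zero]

/-- Differentials of generators of the maximal ideal together with lifts of generators of the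
differentials of the residue field generate. -/
theorem span_of_residue [Module.Finite A (Ω[A⁄k])] {ι : Type*} (g : ι → A) (s t : Set ι)
    (hs : Ideal.span (g '' s) = maximalIdeal A)
    (ht : Submodule.span (ResidueField A) ((fun i => D k (ResidueField A) (residue A (g i))) '' t) = ⊤) :
    Submodule.span A (Set.range fun i => D k A (g i)) = ⊤ := by
  rw [← IsLocalRing.map_tensorProduct_mk_eq_top, eq_top_iff]
  let T := Submodule.span (ResidueField A) (Set.range fun i => dbar k A (g i))
  have hT : ∀ w, w ∈ T := by
    intro w
    have hsub : Submodule.span (ResidueField A) ((fun i => D k (ResidueField A) (residue A (g i))) '' t) ≤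
        T.map (mapBaseChange k A (ResidueField A)) := Submodule.span_le.mpr (by
      rintro _ ⟨i, -, rfl⟩
      exact ⟨dbar k A (g i), Submodule.subset_span ⟨i, rfl⟩, mapBaseChange_dbar k A (g i)⟩)
    rw [ht] at hsub
    obtain ⟨v, hv, hv'⟩ := hsub (Submodule.mem_top (x := mapBaseChange k A (ResidueField A) w))
    obtain ⟨c, hc⟩ := (exact_kerCotangentToTensor_mapBaseChange k A (ResidueField A) residue_surjective
      (w - v)).mp (by rw [map_sub, hv', sub_self])
    obtain ⟨⟨a, ha⟩, rfl⟩ := Ideal.toCotangent_surjective _ c
    rw [kerCotangentToTensor_toCotangent] at hc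
    have key : ∀ a ∈ Ideal.span (g '' s), dbar k A a ∈ T := by
      intro a ha
      induction ha using Submodule.span_induction with
      | mem y hy =>
        obtain ⟨i, -, rfl⟩ := hy
        exact Submodule.subset_span ⟨i, rfl⟩
      | zero => simp [dbar]
      | add y z _ _ hy hz => rw [dbar_add]; exact add_mem hy hz
      | smul c y hy hy' =>
        rw [smul_eq_mul, dbar_mul, (residue_eq_zero_iff y).mpr (hs ▸ hy), zero_smul, add_zero]
        exact Submodule.smul_mem _ _ hy'
    have h1 : w - v ∈ T := by
      rw [← hc]
      exact key a (hs ▸ (residue_eq_zero_iff a).mp ha)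
    simpa using add_mem h1 hv
  intro w hw; clear hw
  induction hT w using Submodule.span_induction with
  | mem y hy =>
    obtain ⟨i, rfl⟩ := hy
    exact ⟨D k A (g i), Submodule.subset_span ⟨i, rfl⟩, rfl⟩
  | zero => exact zero_mem _
  | add y z _ _ hy hz => exact add_mem hy hz
  | smul c y _ hy =>
    obtain ⟨a, rfl⟩ := residue_surjective c
    rw [show residue A a • y = a • y from algebraMap_smul (ResidueField A) a y]
    exact Submodule.smul_mem _ a hy

/-- A spanning set for the differentials gives a spanning set for those of the residue field. -/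
theorem residue_span_of_span {ι : Type*} (g : ι → A) (s t : Set ι) (hst : s ∪ t = Set.univ)
    (hs : ∀ i ∈ s, g i ∈ maximalIdeal A)
    (h : Submodule.span A (Set.range fun i => D k A (g i)) = ⊤) :
    Submodule.span (ResidueField A) ((fun i => D k (ResidueField A) (residue A (g i))) '' t) = ⊤ := by
  rw [eq_top_iff]
  intro z hz; clear hz
  obtain ⟨w, rfl⟩ := KaehlerDifferential.map_surjective_of_surjective k k A (ResidueField A) residue_surjective z
  induction (h.ge (Submodule.mem_top (x := w))) using Submodule.span_induction with
  | mem y hy =>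
    obtain ⟨i, rfl⟩ := hy
    rw [map_D]
    rcases (hst.ge (Set.mem_univ i)) with hi | hi
    · rw [show algebraMap A (ResidueField A) (g i) = 0 from (residue_eq_zero_iff _).mpr (hs i hi), map_zero]
      exact zero_mem _
    · exact Submodule.subset_span ⟨i, hi, rfl⟩
  | zero => rw [map_zero]; exact zero_mem _
  | add y z _ _ hy hz => rw [map_add]; exact add_mem hy hz
  | smul c y _ hy =>
    rw [map_smul, ← algebraMap_smul (ResidueField A) c]
    exact Submodule.smul_mem _ _ hy

/-- In a regular local ring of dimension `r`, `r` elements with independent differentials at the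
closed point generate the maximal ideal. -/
theorem span_eq_maximalIdeal [IsRegularLocalRing A] {ι : Type*} [Fintype ι]
    (hr : ringKrullDim A = (Fintype.card ι : WithBot ℕ∞)) (x : ι → A) (hx : ∀ i, x i ∈ maximalIdeal A)
    (hli : LinearIndependent (ResidueField A) fun i => dbar k A (x i)) :
    Ideal.span (Set.range x) = maximalIdeal A := by
  let c : ι → CotangentSpace A := fun i => (maximalIdeal A).toCotangent ⟨x i, hx i⟩
  have hc : LinearIndependent (ResidueField A) c := by
    rw [Fintype.linearIndependent_iff]
    intro g hg
    choose a ha using fun i => residue_surjective (R := A) (g i)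
    have h2 : ∑ i, a i * x i ∈ maximalIdeal A ^ 2 := by
      rw [← Ideal.toCotangent_eq_zero (I := maximalIdeal A) ⟨∑ i, a i * x i,
        Ideal.sum_mem _ fun i _ => Ideal.mul_mem_left _ _ (hx i)⟩]
      refine Eq.trans ?_ hg
      rw [show (⟨∑ i, a i * x i, Ideal.sum_mem _ fun i _ => Ideal.mul_mem_left _ _ (hx i)⟩ : maximalIdeal A) =
        ∑ i, a i • (⟨x i, hx i⟩ : maximalIdeal A) from Subtype.ext (by
          rw [AddSubmonoidClass.coe_finset_sum]; rfl), map_sum]
      refine Finset.sum_congr rfl fun i _ => ?_
      rw [map_smul, ← ha i]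
      exact (algebraMap_smul (ResidueField A) (a i) _).symm
    have h3 := dbar_eq_zero_of_mem_sq k A h2
    have h4 : dbar k A (∑ i, a i * x i) = ∑ i, residue A (a i) • dbar k A (x i) := by
      let f : A →+ ResidueField A ⊗[A] Ω[A⁄k] := AddMonoidHom.mk' (dbar k A) (dbar_add k A)
      rw [show dbar k A (∑ i, a i * x i) = f (∑ i, a i * x i) from rfl, map_sum]
      refine Finset.sum_congr rfl fun i _ => ?_
      show dbar k A (a i * x i) = _
      rw [dbar_mul, (residue_eq_zero_iff (x i)).mpr (hx i), zero_smul, add_zero]
    rw [h4] at h3
    intro i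
    rw [← ha i]
    exact Fintype.linearIndependent_iff.mp hli _ h3 i
  have hfr : Fintype.card ι = Module.finrank (ResidueField A) (CotangentSpace A) := by
    have := (isRegularLocalRing_iff A).mp inferInstance
    rw [hr, IsLocalRing.spanFinrank_maximalIdeal_eq_finrank_cotangentSpace] at this
    exact_mod_cast this.symm
  have h1 : Submodule.span (ResidueField A) (Set.range c) = ⊤ :=
    hc.span_eq_top_of_card_eq_finrank' hfr
  rw [show Set.range c = (maximalIdeal A).toCotangent '' (Set.range fun i => (⟨x i, hx i⟩ : maximalIdeal A))
    from (Set.range_comp _ _).trans rfl, CotangentSpace.span_image_eq_top_iff] at h1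
  have h2 := congrArg (Submodule.map (maximalIdeal A).subtype) h1
  rw [Submodule.map_span, Submodule.map_top, Submodule.range_subtype, ← Set.range_comp] at h2
  exact h2

end Groth.L05.SmoothCrit
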