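import Groth.Agent.L20.FlatLocusOpen
import Mathlib.RingTheory.Etale.Locus
import Mathlib.RingTheory.Smooth.Fiber
import Mathlib.RingTheory.Flat.Stability

/-!
Flat and unramified at a prime is étale at the prime.
-/

set_option autoImplicit false
set_option linter.style.haveILetI false
universe u

namespace Groth.L05.SmoothCrit

theorem isEtaleAt_of_unramified_of_flat {R S : Type u} [CommRing R] [CommRing S] [Algebra R S]
    [Algebra.FinitePresentation R S] (q : Ideal S) [q.IsPrime]
    [Module.Flat R (Localization.AtPrime q)] [Algebra.IsUnramifiedAt R q] : Algebra.IsEtaleAt R q := by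
  haveI : Module.Flat R (LocalizedModule q.primeCompl S) := inferInstanceAs (Module.Flat R (Localization.AtPrime q))
  obtain ⟨g, hg, hflat⟩ := Groth.L20.exists_flat_away (R := R) (M := S) q.primeCompl
  obtain ⟨f, hfp, hf⟩ := Algebra.exists_unramified_of_isUnramifiedAt (R := R) q
  haveI : Module.Flat R (Localization.Away g) := hflat
  have h : g * f ∈ q.primeCompl := mul_mem hg hfp
  have hle : PrimeSpectrum.basicOpen (g * f) ≤ PrimeSpectrum.basicOpen f := PrimeSpectrum.basicOpen_mul_le_right g f
  haveI : Algebra.FormallyUnramified R (Localization.Away (g * f)) := by
    letI := (IsLocalization.Away.lift (S := Localization.Away f) (g := algebraMap S (Localization.Away (g * f))) f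
      (isUnit_of_dvd_unit (map_dvd _ (dvd_mul_left f g)) (IsLocalization.Away.algebraMap_isUnit (g * f)))).toAlgebra
    haveI : IsScalarTower S (Localization.Away f) (Localization.Away (g * f)) :=
      IsScalarTower.of_algebraMap_eq fun x => (IsLocalization.Away.lift_eq f _ x).symm
    haveI : IsScalarTower R (Localization.Away f) (Localization.Away (g * f)) := IsScalarTower.to₁₃₄ R S _ _
    haveI : Algebra.FormallyEtale S (Localization.Away (g * f)) := .of_isLocalization (Submonoid.powers (g * f))
    haveI : Algebra.FormallyEtale S (Localization.Away f) := .of_isLocalization (Submonoid.powers f)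
    haveI : Algebra.FormallyUnramified (Localization.Away f) (Localization.Away (g * f)) :=
      Algebra.FormallyUnramified.of_restrictScalars S _ _
    exact Algebra.FormallyUnramified.comp R (Localization.Away f) _
  haveI : Module.Flat R (Localization.Away (g * f)) := by
    letI := (IsLocalization.Away.lift (S := Localization.Away g) (g := algebraMap S (Localization.Away (g * f))) g
      (isUnit_of_dvd_unit (map_dvd _ (dvd_mul_right g f)) (IsLocalization.Away.algebraMap_isUnit (g * f)))).toAlgebra
    haveI : IsScalarTower S (Localization.Away g) (Localization.Away (g * f)) :=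
      IsScalarTower.of_algebraMap_eq fun x => (IsLocalization.Away.lift_eq g _ x).symm
    haveI : IsScalarTower R (Localization.Away g) (Localization.Away (g * f)) := IsScalarTower.to₁₃₄ R S _ _
    haveI : Module.Flat S (Localization.Away (g * f)) := IsLocalization.flat _ (Submonoid.powers (g * f))
    haveI : Module.Flat (Localization.Away g) (Localization.Away (g * f)) :=
      (Module.flat_iff_of_isLocalization (Localization.Away g) (Submonoid.powers g) _).mpr inferInstance
    exact Module.Flat.trans R (Localization.Away g) _
  haveI : Algebra.FinitePresentation S (Localization.Away (g * f)) := IsLocalization.Away.finitePresentation (g * f)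
  haveI : Algebra.FinitePresentation R (Localization.Away (g * f)) := Algebra.FinitePresentation.trans R S _
  haveI : Algebra.Etale R (Localization.Away (g * f)) := Algebra.Etale.of_formallyUnramified_of_flat
  have hsub := (Algebra.basicOpen_subset_etaleLocus_iff (R := R) (f := g * f)).mpr inferInstance
  exact hsub (show (⟨q, inferInstance⟩ : PrimeSpectrum S) ∈ PrimeSpectrum.basicOpen (g * f) from h)

end Groth.L05.SmoothCrit
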