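import Groth.Agent.L05.Point.Stalk

/-!
# Unramified local homomorphisms via the fibre ring
-/

set_option autoImplicit false
set_option linter.style.haveILetI false
set_option backward.isDefEq.respectTransparency.types false
set_option backward.isDefEq.respectTransparency false

universe u

open CategoryTheory CategoryTheory.Limits AlgebraicGeometry TopologicalSpace IsLocalRing

namespace Groth.L05.SmoothCrit

theorem formallyUnramified_iff_fibre_field (A B : Type u) [CommRing A] [CommRing B] [IsLocalRing A]
    [IsLocalRing B] [Algebra A B] [IsLocalHom (algebraMap A B)] [Algebra.EssFiniteType A B] :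
    Algebra.FormallyUnramified A B ↔
      letI φ := algebraMap A B
      letI := (Ideal.quotientMap ((maximalIdeal A).map φ) φ Ideal.le_comap_map).toAlgebra
      IsField (B ⧸ (maximalIdeal A).map φ) ∧
        Module.Finite (A ⧸ maximalIdeal A) (B ⧸ (maximalIdeal A).map φ) ∧
        Algebra.IsSeparable (A ⧸ maximalIdeal A) (B ⧸ (maximalIdeal A).map φ) := by
  letI φ := algebraMap A B
  letI alg := (Ideal.quotientMap ((maximalIdeal A).map φ) φ Ideal.le_comap_map).toAlgebra
  letI algk : Algebra (A ⧸ maximalIdeal A) (ResidueField B) :=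
    inferInstanceAs (Algebra (ResidueField A) (ResidueField B))
  have key : ∀ hmax : (maximalIdeal A).map φ = maximalIdeal B,
      Nonempty ((B ⧸ (maximalIdeal A).map φ) ≃ₐ[A ⧸ maximalIdeal A] ResidueField B) := fun hmax =>
    ⟨{ Ideal.quotEquivOfEq hmax with
        commutes' := fun a => by
          obtain ⟨a, rfl⟩ := Ideal.Quotient.mk_surjective a
          rfl }⟩
  rw [Algebra.FormallyUnramified.iff_map_maximalIdeal_eq]
  constructor
  · rintro ⟨hsep, hmax⟩
    haveI : Algebra.FormallyUnramified A B := .of_map_maximalIdeal hmax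
    haveI : Algebra.EssFiniteType A (ResidueField B) :=
      Algebra.EssFiniteType.comp _ B _
    haveI : Algebra.EssFiniteType (ResidueField A) (ResidueField B) :=
      Algebra.EssFiniteType.of_comp A _ _
    haveI hfin : Module.Finite (A ⧸ maximalIdeal A) (ResidueField B) :=
      Algebra.FormallyUnramified.finite_of_free (ResidueField A) (ResidueField B)
    obtain ⟨e⟩ := key hmax
    haveI hsep' : Algebra.IsSeparable (A ⧸ maximalIdeal A) (ResidueField B) := hsep
    refine ⟨?_, Module.Finite.equiv e.symm.toLinearEquiv, AlgEquiv.Algebra.isSeparable e.symm⟩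
    exact e.toMulEquiv.isField (Field.toIsField _)
  · rintro ⟨hf, -, hsep⟩
    have hmax : (maximalIdeal A).map φ = maximalIdeal B :=
      eq_maximalIdeal (Ideal.Quotient.maximal_of_isField _ hf)
    obtain ⟨e⟩ := key hmax
    exact ⟨(AlgEquiv.Algebra.isSeparable e : Algebra.IsSeparable (A ⧸ maximalIdeal A) (ResidueField B)), hmax⟩

/-- Unramified at every point in terms of the fibre rings. -/
theorem stalkMap_formallyUnramified_iff {X Y : Scheme.{u}} (f : X ⟶ Y) [LocallyOfFiniteType f] (x : X) :
    (f.stalkMap x).hom.FormallyUnramified ↔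
      letI φ := (f.stalkMap x).hom
      letI 𝔪 := IsLocalRing.maximalIdeal ↑(Y.presheaf.stalk (f.base x))
      letI := (Ideal.quotientMap (𝔪.map φ) φ Ideal.le_comap_map).toAlgebra
      IsField (↑(X.presheaf.stalk x) ⧸ 𝔪.map φ) ∧
        Module.Finite (↑(Y.presheaf.stalk (f.base x)) ⧸ 𝔪) (↑(X.presheaf.stalk x) ⧸ 𝔪.map φ) ∧
        Algebra.IsSeparable (↑(Y.presheaf.stalk (f.base x)) ⧸ 𝔪) (↑(X.presheaf.stalk x) ⧸ 𝔪.map φ) := by
  have hC := LocallyOfFiniteType.stalkMap f x
  algebraize [(f.stalkMap x).hom]
  haveI : IsLocalHom (algebraMap (Y.presheaf.stalk (f x)) (X.presheaf.stalk x)) :=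
    inferInstanceAs (IsLocalHom (f.stalkMap x).hom)
  haveI : Algebra.EssFiniteType (Y.presheaf.stalk (f x)) (X.presheaf.stalk x) := hC
  exact formallyUnramified_iff_fibre_field (Y.presheaf.stalk (f x)) (X.presheaf.stalk x)

end Groth.L05.SmoothCrit
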