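import Groth.Agent.S5803
import Groth.Agent.L07.QuasiRegular
import Groth.Agent.L25.DerReduced
import Mathlib.RingTheory.Kaehler.Basic
import Mathlib.RingTheory.RegularLocalRing.Defs
import Mathlib.RingTheory.KrullDimension.Regular
import Mathlib.RingTheory.MvPolynomial.Homogeneous
import Mathlib.Algebra.MvPolynomial.PDeriv

/-!
In characteristic zero a Noetherian local algebra with rational residue field and free differentials
is regular.
-/

set_option autoImplicit false
set_option linter.style.haveILetI false
universe u

namespace Groth.L05.SmoothCrit.FreeKaehlerRegular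

open IsLocalRing MvPolynomial Groth.L07

variable {k R : Type u} [Field k] [CommRing R] [Algebra k R] [IsLocalRing R]

theorem mem_sq_of_D_mem (hres : Function.Surjective (algebraMap k (ResidueField R))) {a : R}
    (ha : a ∈ maximalIdeal R)
    (hD : KaehlerDifferential.D k R a ∈ maximalIdeal R • (⊤ : Submodule R (Ω[R⁄k]))) :
    a ∈ maximalIdeal R ^ 2 := by
  choose χ hχ using fun x : R => hres (residue R x)
  have hinj : Function.Injective (algebraMap k (ResidueField R)) := (algebraMap k (ResidueField R)).injective
  have hmem : ∀ x, x - algebraMap k R (χ x) ∈ maximalIdeal R := fun x => by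
    rw [← residue_eq_zero_iff, map_sub, sub_eq_zero, ← hχ x]
    exact IsScalarTower.algebraMap_apply k R (ResidueField R) (χ x)
  have hadd : ∀ x y, χ (x + y) = χ x + χ y := fun x y => hinj (by rw [map_add, hχ, hχ, hχ, map_add])
  have hsmul : ∀ (c : k) (x : R), χ (c • x) = c * χ x := fun c x => hinj (by
    rw [map_mul, hχ, hχ, Algebra.smul_def, map_mul]
    rfl)
  have hmul : ∀ x y, χ (x * y) = χ x * χ y := fun x y => hinj (by rw [map_mul, hχ, hχ, hχ, map_mul])
  let q : R →ₐ[k] R ⧸ maximalIdeal R ^ 2 := Ideal.Quotient.mkₐ k _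
  let ψl : R →ₗ[k] R ⧸ maximalIdeal R ^ 2 :=
    { toFun := fun x => q (x - algebraMap k R (χ x))
      map_add' := fun x y => by rw [hadd, map_add, ← map_add q]; congr 1; ring
      map_smul' := fun c x => by
        rw [RingHom.id_apply, ← map_smul q, hsmul, map_mul, smul_sub, Algebra.smul_def c (algebraMap k R (χ x))] }
  let ψ : Derivation k R (R ⧸ maximalIdeal R ^ 2) := Derivation.mk' ψl (fun x y => by
    show q (x * y - algebraMap k R (χ (x * y))) =
      x • q (y - algebraMap k R (χ y)) + y • q (x - algebraMap k R (χ x))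
    rw [hmul, map_mul, Algebra.smul_def, Algebra.smul_def, Ideal.Quotient.algebraMap_eq]
    show Ideal.Quotient.mk _ _ = Ideal.Quotient.mk _ x * Ideal.Quotient.mk _ _ + Ideal.Quotient.mk _ y * Ideal.Quotient.mk _ _
    rw [← map_mul (Ideal.Quotient.mk _), ← map_mul (Ideal.Quotient.mk _), ← map_add, Ideal.Quotient.eq, pow_two]
    have := Ideal.mul_mem_mul (hmem x) (hmem y)
    have e : x * y - algebraMap k R (χ x) * algebraMap k R (χ y) -
        (x * (y - algebraMap k R (χ y)) + y * (x - algebraMap k R (χ x))) =
        -((x - algebraMap k R (χ x)) * (y - algebraMap k R (χ y))) := by ring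
    rw [e]
    exact neg_mem this)
  have hψm : ∀ w : Ω[R⁄k], ψ.liftKaehlerDifferential w ∈ (maximalIdeal R).map (Ideal.Quotient.mk (maximalIdeal R ^ 2)) := by
    intro w
    induction (KaehlerDifferential.span_range_derivation k R ▸ Submodule.mem_top :
        w ∈ Submodule.span R (Set.range (KaehlerDifferential.D k R))) using Submodule.span_induction with
    | mem y hy =>
      obtain ⟨b, rfl⟩ := hy
      rw [ψ.liftKaehlerDifferential_comp_D]
      exact Ideal.mem_map_of_mem _ (hmem b)
    | zero => rw [map_zero]; exact zero_mem _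
    | add y z _ _ hy hz => rw [map_add]; exact add_mem hy hz
    | smul c y _ hy =>
      rw [map_smul, Algebra.smul_def]
      exact Ideal.mul_mem_left _ _ hy
  have h0 : ψ.liftKaehlerDifferential (KaehlerDifferential.D k R a) = 0 := by
    refine Submodule.smul_induction_on hD (fun r hr w _ => ?_) (fun x y hx hy => by rw [map_add, hx, hy, add_zero])
    obtain ⟨s, hs, hs'⟩ := (Ideal.mem_map_iff_of_surjective _ Ideal.Quotient.mk_surjective).mp (hψm w)
    rw [map_smul, ← hs', Algebra.smul_def, Ideal.Quotient.algebraMap_eq, ← map_mul,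
      Ideal.Quotient.eq_zero_iff_mem, pow_two]
    exact Ideal.mul_mem_mul hr hs
  rw [ψ.liftKaehlerDifferential_comp_D] at h0
  have hχa : χ a = 0 := hinj (by rw [hχ, map_zero, (residue_eq_zero_iff a).mpr ha])
  rw [← Ideal.Quotient.eq_zero_iff_mem]
  have e : Ideal.Quotient.mk (maximalIdeal R ^ 2) (a - algebraMap k R (χ a)) = 0 := h0
  rwa [hχa, map_zero, sub_zero] at e

theorem main [CharZero k] [IsNoetherianRing R]
    (hres : Function.Surjective (algebraMap k (ResidueField R)))
    (n : ℕ) (e : Ω[R⁄k] ≃ₗ[R] (Fin n → R)) : IsRegularLocalRing R ∧ ringKrullDim R = n := by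
  classical
  let m := maximalIdeal R
  let δ : Fin n → Derivation k R R := fun i =>
    ((LinearMap.proj i).comp e.toLinearMap).compDer (KaehlerDifferential.D k R)
  have hδ : ∀ i a, δ i a = e (KaehlerDifferential.D k R a) i := fun i a => rfl
  -- elements with prescribed differentials modulo the maximal ideal
  have hsurj : ∀ v : Ω[R⁄k], ∃ x ∈ m, ∀ i, e v i - δ i x ∈ m := by
    intro v
    induction (KaehlerDifferential.span_range_derivation k R ▸ Submodule.mem_top :
        v ∈ Submodule.span R (Set.range (KaehlerDifferential.D k R))) using Submodule.span_induction with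
    | mem y hy =>
      obtain ⟨b, rfl⟩ := hy
      obtain ⟨c, hc⟩ := hres (residue R b)
      refine ⟨b - algebraMap k R c, ?_, fun i => ?_⟩
      · rw [← residue_eq_zero_iff, map_sub, sub_eq_zero, ← hc]
        exact IsScalarTower.algebraMap_apply k R (ResidueField R) c
      · rw [map_sub, (δ i).map_algebraMap, sub_zero, hδ, sub_self]
        exact zero_mem _
    | zero => exact ⟨0, zero_mem _, fun i => by simp⟩
    | add y z _ _ hy hz =>
      obtain ⟨a, ha, ha'⟩ := hy
      obtain ⟨b, hb, hb'⟩ := hz
      exact ⟨a + b, add_mem ha hb, fun i => by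
        rw [map_add, map_add, Pi.add_apply]
        convert add_mem (ha' i) (hb' i) using 1
        ring⟩
    | smul r y _ hy =>
      obtain ⟨a, ha, ha'⟩ := hy
      obtain ⟨c, hc⟩ := hres (residue R r)
      have hrc : r - algebraMap k R c ∈ m := by
        rw [← residue_eq_zero_iff, map_sub, sub_eq_zero, ← hc]
        exact IsScalarTower.algebraMap_apply k R (ResidueField R) c
      refine ⟨c • a, by rw [Algebra.smul_def]; exact Ideal.mul_mem_left _ _ ha, fun i => ?_⟩
      rw [map_smul e, (δ i).map_smul, Pi.smul_apply, smul_eq_mul, Algebra.smul_def]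
      have : r * e y i - algebraMap k R c * δ i a =
          (r - algebraMap k R c) * e y i + algebraMap k R c * (e y i - δ i a) := by ring
      rw [this]
      exact add_mem (Ideal.mul_mem_right _ _ hrc) (Ideal.mul_mem_left _ _ (ha' i))
  choose x hxm hx using fun j : Fin n => hsurj (e.symm (Pi.single j 1))
  simp only [LinearEquiv.apply_symm_apply] at hx
  -- the elements generate
  have hgen : Ideal.span (Set.range x) = m := by
    refine le_antisymm (Ideal.span_le.mpr (by rintro _ ⟨j, rfl⟩; exact hxm j)) ?_
    refine Submodule.le_of_le_smul_of_le_jacobson_bot (IsNoetherian.noetherian m) (maximalIdeal_le_jacobson _) ?_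
    intro a ha
    let a' := a - ∑ j, δ j a * x j
    have ha' : a' ∈ m := sub_mem ha (Ideal.sum_mem _ fun j _ => Ideal.mul_mem_left _ _ (hxm j))
    have hD : KaehlerDifferential.D k R a' ∈ m • (⊤ : Submodule R (Ω[R⁄k])) := by
      have hi : ∀ i, δ i a' ∈ m := by
        intro i
        simp only [a', map_sub, map_sum, Derivation.leibniz, smul_eq_mul, Finset.sum_add_distrib]
        have h1 : ∑ j, δ j a * δ i (x j) - δ i a ∈ m := by
          have : δ i a = ∑ j, δ j a * (Pi.single (M := fun _ => R) j 1 i) := by
            simp [Pi.single_apply]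
          rw [this, ← Finset.sum_sub_distrib]
          refine Ideal.sum_mem _ fun j _ => ?_
          rw [← mul_sub]
          refine Ideal.mul_mem_left _ _ ?_
          rw [← neg_sub]
          exact neg_mem (hx j i)
        have h2 : ∑ j, x j * δ i (δ j a) ∈ m := Ideal.sum_mem _ fun j _ => Ideal.mul_mem_right _ _ (hxm j)
        convert sub_mem (neg_mem h1) h2 using 1
        ring
      have : e (KaehlerDifferential.D k R a') = ∑ i, δ i a' • Pi.single i (1 : R) :=
        pi_eq_sum_univ' (e (KaehlerDifferential.D k R a'))
      rw [← e.symm_apply_apply (KaehlerDifferential.D k R a'), this, map_sum]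
      exact Submodule.sum_mem _ fun i _ => by
        rw [map_smul]; exact Submodule.smul_mem_smul (hi i) Submodule.mem_top
    refine Submodule.mem_sup.mpr ⟨∑ j, δ j a * x j, Ideal.sum_mem _ fun j _ =>
      Ideal.mul_mem_left _ _ (Ideal.subset_span ⟨j, rfl⟩), a', ?_, by ring⟩
    rw [smul_eq_mul, ← pow_two]
    exact mem_sq_of_D_mem hres ha' hD
  -- quasi-regularity
  have hq : CAlgX.IsQuasiRegular x := by
    intro d
    induction d with
    | zero =>
      intro P hP hev s₀
      rw [zero_add, pow_one] at hev
      obtain ⟨c, rfl⟩ : ∃ c, P = C c := ⟨_, totalDegree_eq_zero_iff_eq_C.mp (Nat.le_zero.mp hP.totalDegree_le)⟩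
      rw [eval_C] at hev
      rw [coeff_C]
      split_ifs
      · exact hev
      · exact zero_mem _
    | succ d ih =>
      intro P hP hev s₀
      rw [hgen] at hev ⊢
      by_contra hce
      have hce0 : P.coeff s₀ ≠ 0 := fun h => hce (h ▸ zero_mem _)
      have hdeg : Finsupp.degree s₀ = d + 1 := by
        rw [Finsupp.degree_eq_weight_one]; exact hP hce0
      obtain ⟨j, hj⟩ : ∃ j, s₀ j ≠ 0 := by
        by_contra h
        push Not at h
        rw [show s₀ = 0 from Finsupp.ext h, map_zero] at hdeg
        omega
      have hmon : ∀ (s : Fin n →₀ ℕ) (c : R), Finsupp.degree s = d + 1 →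
          δ j (eval x (monomial s c)) - ∑ i, eval x (pderiv i (monomial s c)) * δ j (x i) ∈ m ^ (d + 1) := by
        intro s c hs
        have h := Groth.L25.DerReduced.derivation_aeval x (δ j) (monomial s (1 : k))
        simp only [aeval_monomial, map_one, one_mul, pderiv_monomial] at h
        rw [eval_monomial, Derivation.leibniz, smul_eq_mul, smul_eq_mul, h, Finset.mul_sum]
        have : ∑ i, eval x (pderiv i (monomial s c)) * δ j (x i) =
            ∑ i, c * (algebraMap k R ((s i : k)) * (s - Finsupp.single i 1).prod (fun l a => x l ^ a) * δ j (x i)) := by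
          refine Finset.sum_congr rfl fun i _ => ?_
          rw [pderiv_monomial, eval_monomial, map_natCast]
          ring
        rw [this, add_sub_cancel_left]
        refine Ideal.mul_mem_right _ _ ?_
        have hh := QReg.eval_mem_span_pow x (isHomogeneous_monomial (1 : R) hs)
        rw [hgen, eval_monomial, one_mul] at hh
        exact hh
      have hδP : δ j (eval x P) - ∑ i, eval x (pderiv i P) * δ j (x i) ∈ m ^ (d + 1) := by
        let L : MvPolynomial (Fin n) R →+ R := AddMonoidHom.mk'
          (fun Q => δ j (eval x Q) - ∑ i, eval x (pderiv i Q) * δ j (x i)) (fun Q₁ Q₂ => by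
            simp only [map_add, add_mul, Finset.sum_add_distrib]; ring)
        show L P ∈ m ^ (d + 1)
        rw [P.as_sum, map_sum]
        refine Ideal.sum_mem _ fun s hs => hmon s _ ?_
        rw [Finsupp.degree_eq_weight_one]; exact hP (mem_support_iff.mp hs)
      have hpd : ∀ i, (pderiv i P).IsHomogeneous d := fun i => by
        simpa using hP.pderiv (i := i)
      have hj' : eval x (pderiv j P) ∈ m ^ (d + 1) := by
        have h1 : ∀ i, eval x (pderiv i P) * δ j (x i) - (Pi.single (M := fun _ => R) j (eval x (pderiv j P)) i) ∈ m ^ (d + 1) := by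
          intro i
          have h2 : δ j (x i) - (Pi.single (M := fun _ => R) i (1 : R) j) ∈ m := by
            rw [← neg_sub]; exact neg_mem (hx i j)
          have h3 : eval x (pderiv i P) ∈ m ^ d := by
            have := QReg.eval_mem_span_pow x (hpd i)
            rwa [hgen] at this
          have h4 := Ideal.mul_mem_mul h3 h2
          rw [← pow_succ] at h4
          convert h4 using 1
          rcases eq_or_ne i j with rfl | hij
          · simp [mul_sub]
          · simp [mul_sub, Pi.single_apply, hij, hij.symm]
        have h5 : ∑ i, eval x (pderiv i P) * δ j (x i) - eval x (pderiv j P) ∈ m ^ (d + 1) := by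
          have := Ideal.sum_mem _ (fun i (_ : i ∈ Finset.univ) => h1 i)
          rwa [Finset.sum_sub_distrib, Finset.sum_pi_single', if_pos (Finset.mem_univ j)] at this
        have h6 : δ j (eval x P) ∈ m ^ (d + 1) := Groth.L25.DerReduced.derivation_pow (δ j) (d + 1) hev
        convert sub_mem (sub_mem h6 hδP) h5 using 1
        ring
      rw [← hgen] at hj'
      have h7 := ih (pderiv j P) (hpd j) hj' (s₀ - Finsupp.single j 1)
      rw [hgen, coeff_pderiv, tsub_add_cancel_of_le (Finsupp.single_le_iff.mpr (Nat.one_le_iff_ne_zero.mpr hj))] at h7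
      refine hce ?_
      have hu : IsUnit ((((s₀ - Finsupp.single j 1 : Fin n →₀ ℕ) j : ℕ) : R) + 1) := by
        have : (((s₀ - Finsupp.single j 1 : Fin n →₀ ℕ) j : ℕ) : R) + 1 = algebraMap k R ((s₀ j : ℕ) : k) := by
          rw [map_natCast, Finsupp.tsub_apply, Finsupp.single_eq_same, ← Nat.cast_succ]
          congr 1
          omega
        rw [this]
        exact (Ne.isUnit (Nat.cast_ne_zero.mpr hj)).map _
      exact (Ideal.mul_unit_mem_iff_mem m hu).mp h7
  -- conclusion
  have hreg := Groth.Agent.S5803.result R n x
    (fun i => by rw [← Ideal.jacobson_bot]; exact maximalIdeal_le_jacobson _ (hxm i)) hq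
  have hreg' : RingTheory.Sequence.IsRegular R (List.ofFn x) := by
    refine ⟨hreg, ?_⟩
    rw [smul_eq_mul, Ideal.mul_top, QReg.ofList_ofFn, hgen]
    exact (maximalIdeal.isMaximal R).ne_top.symm
  have hdim : ringKrullDim R = n := by
    have h := ringKrullDim_add_length_eq_ringKrullDim_of_isRegular _ hreg'
    rw [QReg.ofList_ofFn, hgen, List.length_ofFn] at h
    have h0 : ringKrullDim (R ⧸ m) = 0 := ringKrullDim_eq_zero_of_isField
      ((Ideal.Quotient.maximal_ideal_iff_isField_quotient m).mp inferInstance)
    rw [h0, zero_add] at h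
    exact h.symm
  refine ⟨IsRegularLocalRing.of_spanFinrank_maximalIdeal_le _ ?_, hdim⟩
  rw [hdim]
  have h : (maximalIdeal R).spanFinrank ≤ n := by
    rw [show maximalIdeal R = Submodule.span R (Set.range x) from hgen.symm]
    refine (Submodule.spanFinrank_span_le_ncard_of_finite (Set.finite_range x)).trans ?_
    rw [← Set.image_univ]
    exact (Set.ncard_image_le (Set.toFinite _)).trans (by simp)
  exact_mod_cast h

end Groth.L05.SmoothCrit.FreeKaehlerRegular
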