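import Groth.Agent.S1182
import Groth.Agent.S1183
import Groth.Agent.S9407
import Groth.Agent.S9438
import Groth.Agent.L19.SkLocal
import Groth.Agent.L04.RegularPd
import Groth.Agent.L06.RegularBaseChange
import Groth.Agent.L07.CIFibre
import Groth.Agent.L06.NormalAscent
import Mathlib.RingTheory.Smooth.Locus
import Mathlib.RingTheory.Localization.BaseChange
import Mathlib.RingTheory.Localization.LocalizationLocalization

/-!
Properties of the local rings of a smooth algebra and of its base.
-/

set_option autoImplicit false
set_option maxSynthPendingDepth 3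
set_option linter.style.haveILetI false
universe u

noncomputable section

namespace Groth.L05.SmoothCrit

open IsLocalRing

theorem hasRk_of_ringEquiv {R R' : Type u} [CommRing R] [CommRing R'] (f : R ≃+* R') (n : ℕ)
    (h : LocCoh.HasRk n R) : LocCoh.HasRk n R' := by
  intro P _ hP
  let Q := P.comap f.toRingHom
  haveI : Q.IsPrime := Ideal.IsPrime.comap _
  haveI := h Q (by rw [show Q.height = P.height from f.height_comap P]; exact hP)
  exact IsRegularLocalRing.of_ringEquiv (IsLocalization.ringEquivOfRingEquiv (M := Q.primeCompl) (T := P.primeCompl)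
    (Localization.AtPrime Q) (Localization.AtPrime P) f (by
      ext x
      simp only [Submonoid.mem_map, Ideal.mem_primeCompl_iff]
      constructor
      · rintro ⟨y, hy, rfl⟩; exact hy
      · intro hx; exact ⟨f.symm x, show f (f.symm x) ∉ P by rwa [f.apply_symm_apply], f.apply_symm_apply x⟩))

variable (A B : Type u) [CommRing A] [CommRing B] [Algebra A B]

/-- A smooth algebra over the local ring of the base, of which the local ring is a localization. -/
theorem exists_local_model [Algebra.Smooth A B] (q : Ideal B) [q.IsPrime] :
    ∃ (B' : Type u) (_ : CommRing B') (_ : Algebra (Localization.AtPrime (q.comap (algebraMap A B))) B')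
      (_ : Algebra.Smooth (Localization.AtPrime (q.comap (algebraMap A B))) B')
      (q' : Ideal B') (_ : q'.IsPrime),
      (algebraMap (Localization.AtPrime (q.comap (algebraMap A B))) (Localization.AtPrime q')).Flat ∧
      IsLocalHom (algebraMap (Localization.AtPrime (q.comap (algebraMap A B))) (Localization.AtPrime q')) ∧
      Nonempty (Localization.AtPrime q' ≃+* Localization.AtPrime q) := by
  let p := q.comap (algebraMap A B)
  let Ap := Localization.AtPrime p
  let Bp := Localization (Algebra.algebraMapSubmonoid B p.primeCompl)
  haveI : Algebra.IsPushout A Ap B Bp :=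
    .symm <| Algebra.isPushout_of_isLocalization p.primeCompl _ _ _
  haveI : Algebra.Smooth Ap Bp :=
    haveI : Algebra.FormallySmooth Ap Bp := .of_equiv (Algebra.IsPushout.equiv A Ap B Bp)
    ⟨inferInstance, Algebra.FinitePresentation.equiv (Algebra.IsPushout.equiv A Ap B Bp)⟩
  have hdis : Disjoint (Algebra.algebraMapSubmonoid B p.primeCompl : Set B) (q : Set B) := by
    rw [Set.disjoint_left]
    rintro _ ⟨a, ha, rfl⟩ h
    exact ha h
  let q' := q.map (algebraMap B Bp)
  haveI : q'.IsPrime := IsLocalization.isPrime_of_isPrime_disjoint _ Bp q inferInstance hdis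
  have hq' : q'.comap (algebraMap B Bp) = q :=
    IsLocalization.comap_map_of_isPrime_disjoint _ Bp inferInstance hdis
  haveI : IsLocalization.AtPrime (Localization.AtPrime q') (q'.comap (algebraMap B Bp)) :=
    IsLocalization.isLocalization_isLocalization_atPrime_isLocalization
      (Algebra.algebraMapSubmonoid B p.primeCompl) (Localization.AtPrime q') q'
  have hp : p = (q'.comap (algebraMap Ap Bp)).comap (algebraMap A Ap) := by
    rw [Ideal.comap_comap, ← IsScalarTower.algebraMap_eq, IsScalarTower.algebraMap_eq A B Bp,
      ← Ideal.comap_comap, hq']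
  have hmax : q'.comap (algebraMap Ap Bp) = maximalIdeal Ap := by
    haveI : (q'.comap (algebraMap Ap Bp)).IsPrime := Ideal.IsPrime.comap _
    refine le_antisymm (IsLocalRing.le_maximalIdeal (Ideal.IsPrime.ne_top inferInstance)) ?_
    rw [← Localization.AtPrime.map_eq_maximalIdeal]
    exact Ideal.map_le_iff_le_comap.mpr hp.le
  refine ⟨Bp, inferInstance, inferInstance, inferInstance, q', inferInstance, ?_, ?_, ?_⟩
  · rw [RingHom.flat_algebraMap_iff]
    haveI : Module.Flat Bp (Localization.AtPrime q') := IsLocalization.flat _ q'.primeCompl
    exact Module.Flat.trans Ap Bp (Localization.AtPrime q')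
  · refine ((local_hom_TFAE (algebraMap Ap (Localization.AtPrime q'))).out 0 4 rfl rfl).mpr ?_
    rw [IsScalarTower.algebraMap_eq Ap Bp (Localization.AtPrime q'), ← Ideal.comap_comap]
    rw [show (maximalIdeal (Localization.AtPrime q')).comap (algebraMap Bp (Localization.AtPrime q')) = q' from
      IsLocalization.AtPrime.comap_maximalIdeal (Localization.AtPrime q') q']
    exact hmax
  · exact ⟨((IsLocalization.algEquiv (q'.comap (algebraMap B Bp)).primeCompl
      (Localization.AtPrime (q'.comap (algebraMap B Bp))) (Localization.AtPrime q')).symm.toRingEquiv).trans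
        (IsLocalization.ringEquivOfRingEquiv (M := (q'.comap (algebraMap B Bp)).primeCompl) (T := q.primeCompl)
          (Localization.AtPrime (q'.comap (algebraMap B Bp))) (Localization.AtPrime q) (RingEquiv.refl B)
          (by simp [hq']))⟩

variable [Algebra.Smooth A B] (q : Ideal B) [q.IsPrime]

theorem isReduced_iff : IsReduced (Localization.AtPrime q) ↔
    IsReduced (Localization.AtPrime (q.comap (algebraMap A B))) := by
  obtain ⟨B', _, _, _, q', _, hf, hl, ⟨e⟩⟩ := exists_local_model A B q
  haveI := hl
  haveI := RingHom.flat_algebraMap_iff.mp hf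
  haveI : Module.FaithfullyFlat (Localization.AtPrime (q.comap (algebraMap A B))) (Localization.AtPrime q') :=
    Module.FaithfullyFlat.of_flat_of_isLocalHom
  constructor
  · intro h
    haveI : IsReduced (Localization.AtPrime q') := isReduced_of_injective e.toRingHom e.injective
    exact isReduced_of_injective (algebraMap _ (Localization.AtPrime q')) (FaithfulSMul.algebraMap_injective _ _)
  · intro h
    haveI : IsReduced B' := Groth.Agent.S9407.result (Localization.AtPrime (q.comap (algebraMap A B))) B'
    exact isReduced_of_injective e.symm.toRingHom e.symm.injective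

theorem isNormal_iff : (IsDomain (Localization.AtPrime q) ∧ IsIntegrallyClosed (Localization.AtPrime q)) ↔
    (IsDomain (Localization.AtPrime (q.comap (algebraMap A B))) ∧
      IsIntegrallyClosed (Localization.AtPrime (q.comap (algebraMap A B)))) := by
  obtain ⟨B', _, _, _, q', _, hf, hl, ⟨e⟩⟩ := exists_local_model A B q
  haveI := hl
  haveI := RingHom.flat_algebraMap_iff.mp hf
  haveI : Module.FaithfullyFlat (Localization.AtPrime (q.comap (algebraMap A B))) (Localization.AtPrime q') :=
    Module.FaithfullyFlat.of_flat_of_isLocalHom
  constructor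
  · rintro ⟨h1, h2⟩
    haveI := h1
    haveI := h2
    haveI : IsDomain (Localization.AtPrime q') := e.toMulEquiv.isDomain
    haveI : IsIntegrallyClosed (Localization.AtPrime q') := IsIntegrallyClosed.of_equiv e.symm
    exact Groth.L06.NormalAscent.isIntegrallyClosed_of_faithfullyFlat
      (Localization.AtPrime (q.comap (algebraMap A B))) (Localization.AtPrime q')
  · rintro ⟨h1, h2⟩
    haveI := h1
    haveI := h2
    have hA : EGA4.IsNormalRing (Localization.AtPrime (q.comap (algebraMap A B))) := fun P _ =>
      ⟨inferInstance, isIntegrallyClosed_of_isLocalization (Localization.AtPrime P) P.primeCompl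
        P.primeCompl_le_nonZeroDivisors⟩
    obtain ⟨h3, h4⟩ := (Groth.Agent.S1182.result (Localization.AtPrime (q.comap (algebraMap A B))) B').1 hA q'
    haveI := h3
    haveI := h4
    exact ⟨e.symm.toMulEquiv.isDomain, IsIntegrallyClosed.of_equiv e⟩

variable [IsNoetherianRing A]

theorem hasSk_iff (n : ℕ) :
    LocCoh.HasSk n (Localization.AtPrime q) (Localization.AtPrime q) ↔
      LocCoh.HasSk n (Localization.AtPrime (q.comap (algebraMap A B)))
        (Localization.AtPrime (q.comap (algebraMap A B))) := by
  obtain ⟨B', _, _, _, q', _, hf, hl, ⟨e⟩⟩ := exists_local_model A B q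
  haveI := hl
  haveI := RingHom.flat_algebraMap_iff.mp hf
  haveI : Module.FaithfullyFlat (Localization.AtPrime (q.comap (algebraMap A B))) (Localization.AtPrime q') :=
    Module.FaithfullyFlat.of_flat_of_isLocalHom
  haveI : IsNoetherianRing (Localization.AtPrime (q.comap (algebraMap A B))) :=
    IsLocalization.isNoetherianRing (q.comap (algebraMap A B)).primeCompl _ inferInstance
  haveI : IsNoetherianRing B' := Algebra.FiniteType.isNoetherianRing (Localization.AtPrime (q.comap (algebraMap A B))) B'
  haveI : IsNoetherianRing (Localization.AtPrime q') := IsLocalization.isNoetherianRing q'.primeCompl _ inferInstance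
  haveI : IsNoetherianRing (Localization.AtPrime q) := isNoetherianRing_of_ringEquiv _ e
  constructor
  · intro h
    exact Groth.L06.FlatFibre.hasSk_base_of_faithfullyFlat
      (R := Localization.AtPrime (q.comap (algebraMap A B))) (S := Localization.AtPrime q') n
      (Groth.L06.FibreComp.hasSk_of_ringEquiv e.symm n h)
  · intro h
    refine Groth.L06.FibreComp.hasSk_of_ringEquiv e n (Groth.L19.SkLocal.hasSk_localization ?_ q')
    have hreg := Groth.L06.RegularBaseChange.of_smooth (Localization.AtPrime (q.comap (algebraMap A B))) B'
    haveI := hreg.1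
    refine Groth.L06.FlatFibre.hasSk_of_flat n h fun P _ => ?_
    haveI : IsNoetherianRing (P.Fiber B') := Algebra.FiniteType.isNoetherianRing P.ResidueField _
    haveI : IsRegularRing (P.Fiber B') := isRegularRing_iff.mpr fun Q _ =>
      Groth.L07.CIFibre.isRegularLocalRing_fibre_of_regular hreg P Q
    exact Groth.L06.FormalFibres.cm_iff_forall_hasSk.mp Groth.L04.isCohenMacaulayRing_of_regularRing n

theorem hasRk_iff (n : ℕ) :
    LocCoh.HasRk n (Localization.AtPrime q) ↔
      LocCoh.HasRk n (Localization.AtPrime (q.comap (algebraMap A B))) := by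
  obtain ⟨B', _, _, _, q', _, hf, hl, ⟨e⟩⟩ := exists_local_model A B q
  haveI := hl
  haveI := RingHom.flat_algebraMap_iff.mp hf
  haveI : Module.FaithfullyFlat (Localization.AtPrime (q.comap (algebraMap A B))) (Localization.AtPrime q') :=
    Module.FaithfullyFlat.of_flat_of_isLocalHom
  haveI : IsNoetherianRing (Localization.AtPrime (q.comap (algebraMap A B))) :=
    IsLocalization.isNoetherianRing (q.comap (algebraMap A B)).primeCompl _ inferInstance
  haveI : IsNoetherianRing B' := Algebra.FiniteType.isNoetherianRing (Localization.AtPrime (q.comap (algebraMap A B))) B'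
  haveI : IsNoetherianRing (Localization.AtPrime q') := IsLocalization.isNoetherianRing q'.primeCompl _ inferInstance
  have htr : ∀ {R R' : Type u} [CommRing R] [CommRing R'] (_ : R ≃+* R'),
      LocCoh.HasRk n R → LocCoh.HasRk n R' := fun f h => hasRk_of_ringEquiv f n h
  constructor
  · intro h
    exact (Groth.Agent.S9438.result n (Localization.AtPrime (q.comap (algebraMap A B))) (Localization.AtPrime q')
      (htr e.symm h)).2
  · intro h
    refine htr e ?_
    intro P _ hP
    have h' := (Groth.Agent.S1183.result (Localization.AtPrime (q.comap (algebraMap A B))) B' n).1 h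
    haveI : IsLocalization.AtPrime (Localization.AtPrime P) (P.comap (algebraMap B' (Localization.AtPrime q'))) :=
      IsLocalization.isLocalization_isLocalization_atPrime_isLocalization q'.primeCompl (Localization.AtPrime P) P
    haveI := h' (P.comap (algebraMap B' (Localization.AtPrime q'))) (by
      rw [IsLocalization.height_comap q'.primeCompl P]; exact hP)
    exact IsRegularLocalRing.of_ringEquiv (IsLocalization.algEquiv
      (P.comap (algebraMap B' (Localization.AtPrime q'))).primeCompl
      (Localization.AtPrime (P.comap (algebraMap B' (Localization.AtPrime q')))) (Localization.AtPrime P)).toRingEquiv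

end Groth.L05.SmoothCrit
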