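import Groth.Agent.L05.Point.Stalk
import Mathlib.AlgebraicGeometry.Morphisms.UniversallyInjective
import Mathlib.FieldTheory.PurelyInseparable.Basic

/-!
# Monomorphisms locally of finite type
-/

set_option autoImplicit false
set_option linter.style.haveILetI false
set_option backward.isDefEq.respectTransparency.types false
set_option backward.isDefEq.respectTransparency false

universe u

open CategoryTheory CategoryTheory.Limits AlgebraicGeometry TopologicalSpace IsLocalRing

namespace Groth.L05.SmoothCrit

theorem quotientMap_bijective_iff (A B : Type u) [CommRing A] [CommRing B] [IsLocalRing A]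
    [IsLocalRing B] [Algebra A B] [IsLocalHom (algebraMap A B)] :
    Function.Bijective (Ideal.quotientMap ((maximalIdeal A).map (algebraMap A B)) (algebraMap A B)
        Ideal.le_comap_map) ↔
      (maximalIdeal A).map (algebraMap A B) = maximalIdeal B ∧
        Function.Surjective (algebraMap (ResidueField A) (ResidueField B)) := by
  have hle : (maximalIdeal A).map (algebraMap A B) ≤ maximalIdeal B :=
    ((local_hom_TFAE (algebraMap A B)).out 0 2).mp ‹_›
  have hinj : Function.Injective (Ideal.quotientMap ((maximalIdeal A).map (algebraMap A B))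
      (algebraMap A B) Ideal.le_comap_map) := by
    haveI : Nontrivial (B ⧸ (maximalIdeal A).map (algebraMap A B)) :=
      Ideal.Quotient.nontrivial_iff.mpr (ne_top_of_le_ne_top (maximalIdeal.isMaximal B).ne_top hle)
    letI := Ideal.Quotient.field (maximalIdeal A)
    exact (Ideal.quotientMap _ (algebraMap A B) Ideal.le_comap_map).injective
  constructor
  · rintro ⟨-, hs⟩
    have hsur : ∀ b : B, ∃ a : A, b - algebraMap A B a ∈ (maximalIdeal A).map (algebraMap A B) := by
      intro b
      obtain ⟨a, ha⟩ := hs (Ideal.Quotient.mk _ b)
      obtain ⟨a, rfl⟩ := Ideal.Quotient.mk_surjective a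
      rw [Ideal.quotientMap_mk, eq_comm, Ideal.Quotient.eq] at ha
      exact ⟨a, ha⟩
    refine ⟨le_antisymm hle fun b hb => ?_, fun c => ?_⟩
    · obtain ⟨a, ha⟩ := hsur b
      have : algebraMap A B a ∈ maximalIdeal B := by
        simpa using sub_mem hb (hle ha)
      have ha' : a ∈ maximalIdeal A := by
        by_contra h
        exact this (((not_not.mp h : IsUnit a)).map (algebraMap A B))
      simpa using add_mem ha (Ideal.mem_map_of_mem (algebraMap A B) ha')
    · obtain ⟨b, rfl⟩ := residue_surjective c
      obtain ⟨a, ha⟩ := hsur b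
      refine ⟨residue A a, ?_⟩
      rw [show algebraMap (ResidueField A) (ResidueField B) (residue A a) =
        residue B (algebraMap A B a) from rfl, eq_comm]
      exact (Ideal.Quotient.eq).mpr (hle ha)
  · rintro ⟨hmax, hs⟩
    refine ⟨hinj, fun c => ?_⟩
    obtain ⟨b, rfl⟩ := Ideal.Quotient.mk_surjective c
    obtain ⟨a', ha⟩ := hs (residue B b)
    obtain ⟨a, rfl⟩ := residue_surjective a'
    refine ⟨Ideal.Quotient.mk _ a, ?_⟩
    rw [Ideal.quotientMap_mk, Ideal.Quotient.eq, hmax]
    exact Ideal.Quotient.eq.mp ha

/-- Monomorphisms locally of finite type, pointwise. -/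
theorem mono_iff_fibres {X Y : Scheme.{u}} (f : X ⟶ Y) [LocallyOfFiniteType f] :
    Mono f ↔ ∀ x : ↥X,
      (∀ x' : ↥X, f.base x' = f.base x → x' = x) ∧
        Function.Bijective
          (Ideal.quotientMap
            ((IsLocalRing.maximalIdeal ↑(Y.presheaf.stalk (f.base x))).map (f.stalkMap x).hom)
            (f.stalkMap x).hom Ideal.le_comap_map) := by
  constructor
  · intro hm x
    haveI : IsIso (pullback.diagonal f) := (pullback.isIso_diagonal_iff f).mpr hm
    haveI : FormallyUnramified f := inferInstance
    refine ⟨fun x' h => f.injective h, ?_⟩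
    have hu := FormallyUnramified.stalkMap (f := f) x
    have hp : Function.Injective f ∧ ∀ x, (f.residueFieldMap x).hom.IsPurelyInseparable :=
      ((tfae_universallyInjective (f := f)).out 0 2 :
        UniversallyInjective f ↔ _).mp inferInstance
    have hC := LocallyOfFiniteType.stalkMap f x
    have hpx := hp.2 x
    algebraize [(f.stalkMap x).hom]
    haveI : IsLocalHom (algebraMap (Y.presheaf.stalk (f x)) (X.presheaf.stalk x)) :=
      inferInstanceAs (IsLocalHom (f.stalkMap x).hom)
    haveI : Algebra.EssFiniteType (Y.presheaf.stalk (f x)) (X.presheaf.stalk x) := hC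
    haveI : Algebra.FormallyUnramified (Y.presheaf.stalk (f x)) (X.presheaf.stalk x) := hu
    obtain ⟨hsep, hmax⟩ := Algebra.FormallyUnramified.iff_map_maximalIdeal_eq.mp
      (inferInstance : Algebra.FormallyUnramified (Y.presheaf.stalk (f x)) (X.presheaf.stalk x))
    have halg : (f.residueFieldMap x).hom.toAlgebra =
        (inferInstance : Algebra (ResidueField (Y.presheaf.stalk (f x)))
          (ResidueField (X.presheaf.stalk x))) := by
      refine Algebra.algebra_ext _ _ fun a => ?_
      obtain ⟨a, rfl⟩ := residue_surjective a
      rfl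
    rw [RingHom.IsPurelyInseparable, halg] at hpx
    haveI : IsPurelyInseparable (ResidueField (Y.presheaf.stalk (f x)))
        (ResidueField (X.presheaf.stalk x)) := hpx
    exact (quotientMap_bijective_iff (Y.presheaf.stalk (f x)) (X.presheaf.stalk x)).mpr
      ⟨hmax, IsPurelyInseparable.surjective_algebraMap_of_isSeparable _ _⟩
  · intro h
    have key : ∀ x : X, (f.stalkMap x).hom.FormallyUnramified ∧
        (f.residueFieldMap x).hom.IsPurelyInseparable := by
      intro x
      have hx := (h x).2
      have hC := LocallyOfFiniteType.stalkMap f x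
      algebraize [(f.stalkMap x).hom]
      haveI : IsLocalHom (algebraMap (Y.presheaf.stalk (f x)) (X.presheaf.stalk x)) :=
        inferInstanceAs (IsLocalHom (f.stalkMap x).hom)
      haveI : Algebra.EssFiniteType (Y.presheaf.stalk (f x)) (X.presheaf.stalk x) := hC
      obtain ⟨hmax, hs⟩ :=
        (quotientMap_bijective_iff (Y.presheaf.stalk (f x)) (X.presheaf.stalk x)).mp hx
      let e : ResidueField (Y.presheaf.stalk (f x)) ≃ₐ[ResidueField (Y.presheaf.stalk (f x))]
          ResidueField (X.presheaf.stalk x) :=
        AlgEquiv.ofBijective (Algebra.ofId _ _) ⟨(algebraMap (ResidueField (Y.presheaf.stalk (f x)))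
          (ResidueField (X.presheaf.stalk x))).injective, hs⟩
      have hsep : Algebra.IsSeparable (ResidueField (Y.presheaf.stalk (f x)))
          (ResidueField (X.presheaf.stalk x)) := AlgEquiv.Algebra.isSeparable e
      refine ⟨Algebra.FormallyUnramified.iff_map_maximalIdeal_eq.mpr ⟨hsep, hmax⟩, ?_⟩
      have halg : (f.residueFieldMap x).hom.toAlgebra =
          (inferInstance : Algebra (ResidueField (Y.presheaf.stalk (f x)))
            (ResidueField (X.presheaf.stalk x))) := by
        refine Algebra.algebra_ext _ _ fun a => ?_
        obtain ⟨a, rfl⟩ := residue_surjective a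
        rfl
      rw [RingHom.IsPurelyInseparable, halg]
      exact e.isPurelyInseparable
    haveI : FormallyUnramified f := by
      have : ∀ x : X, Groth.L05.Point.Nhd @FormallyUnramified f x := fun x =>
        (Groth.L05.Point.nhd_formallyUnramified_iff_stalkMap f x).mpr (key x).1
      choose U hU hE using this
      exact IsZariskiLocalAtSource.of_iSup_eq_top (P := @FormallyUnramified) U
        (eq_top_iff.mpr fun x _ => TopologicalSpace.Opens.mem_iSup.mpr ⟨x, hU x⟩) hE
    haveI : UniversallyInjective f := ((tfae_universallyInjective (f := f)).out 0 2 :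
        _ ↔ (Function.Injective f ∧ ∀ x, (f.residueFieldMap x).hom.IsPurelyInseparable)).mpr
      ⟨fun a b hab => ((h b).1 a hab), fun x => (key x).2⟩
    haveI : Surjective (pullback.diagonal f) := (UniversallyInjective.iff_diagonal f).mp ‹_›
    haveI : IsIso (pullback.diagonal f) := by
      have : Epi (pullback.diagonal f).base :=
        (TopCat.epi_iff_surjective _).mpr (pullback.diagonal f).surjective
      exact IsOpenImmersion.isIso _
    exact (pullback.isIso_diagonal_iff f).mp inferInstance

end Groth.L05.SmoothCrit
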